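import Cfsg.Agent.Lib.D8.Gd

/-! Lists, codes and subgroups of the chart, for the tower checker (helper29). -/

set_option autoImplicit false

namespace Cfsg.Lib.D8

open Cfsg.Lib.H33 Cfsg.Lib.Calc Subgroup

/-- `if b then x else y`. -/
noncomputable def cB (b x y : Bool) : Bool := Bool.rec y x b

theorem cB_iff {b x y : Bool} : cB b x y = true ↔ (b = true ∧ x = true) ∨ (b = false ∧ y = true) := by
  cases b <;> simp [cB]

/-- Negation. -/
noncomputable def bn (b : Bool) : Bool := Bool.rec true false b

theorem bn_iff {b : Bool} : bn b = true ↔ ¬ b = true := by cases b <;> simp [bn]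

/-- The number of fields of a packed list. -/
def ln (x : ℕ) : ℕ := Nat.div (Nat.log2 x) (nat_lit 12)

/-- Unpack a list. -/
noncomputable def uk (x : ℕ) (k : List ℕ → Bool) : Bool :=
  Nat.rec (motive := fun _ => List ℕ → Bool) k (fun i ih acc => forceB (look x i) fun a => ih (a :: acc)) (ln x) []

theorem uk_ok {x : ℕ} {k : List ℕ → Bool} (h : uk x k = true) : ∃ l, k l = true := by
  have : ∀ n acc, Nat.rec (motive := fun _ => List ℕ → Bool) k (fun i ih acc => forceB (look x i) fun a => ih (a :: acc)) n acc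
      = true → ∃ l, k l = true := by
    intro n
    induction n with
    | zero => exact fun acc h => ⟨acc, h⟩
    | succ n ih => exact fun acc h => ih _ ((forceB_eq _ _).symm.trans h)
  exact this _ _ h

/-- Evaluated image of a list. -/
noncomputable def mapK (f : ℕ → ℕ) (l : List ℕ) : (List ℕ → Bool) → Bool :=
  List.rec (fun k => k []) (fun a _ ih k => forceB (f a) fun b => ih fun r => k (b :: r)) l

theorem mapK_eq (f : ℕ → ℕ) (l : List ℕ) (k : List ℕ → Bool) : mapK f l k = k (l.map f) := by
  induction l generalizing k with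
  | nil => rfl
  | cons a l ih =>
    change forceB (f a) (fun b => mapK f l fun r => k (b :: r)) = _
    rw [forceB_eq, ih]; rfl

/-- All members. -/
noncomputable def allG {α : Type} (l : List α) (f : α → Bool) : Bool := List.rec true (fun a _ ih => band (f a) ih) l

theorem allG_iff {α : Type} {l : List α} {f : α → Bool} : allG l f = true ↔ ∀ a ∈ l, f a = true := by
  induction l with
  | nil => simp [allG]
  | cons a l ih => change band (f a) (allG l f) = true ↔ _; rw [band_eq_true, ih]; simp

/-- Some member. -/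
noncomputable def anyG {α : Type} (l : List α) (f : α → Bool) : Bool := List.rec false (fun a _ ih => bor (f a) ih) l

theorem anyG_iff {α : Type} {l : List α} {f : α → Bool} : anyG l f = true ↔ ∃ a ∈ l, f a = true := by
  induction l with
  | nil => simp [anyG]
  | cons a l ih => change bor (f a) (anyG l f) = true ↔ _; rw [bor_eq_true, ih]; simp

/-- Two lists in parallel. -/
noncomputable def all2 {α β : Type} (f : α → β → Bool) (l : List α) : List β → Bool :=
  List.rec (fun m => List.rec true (fun _ _ _ => false) m) (fun a _ ih m => List.rec false (fun b m _ => band (f a b) (ih m)) m) l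

theorem all2_iff {α β : Type} {f : α → β → Bool} {l : List α} {m : List β} :
    all2 f l m = true ↔ List.Forall₂ (fun a b => f a b = true) l m := by
  induction l generalizing m with
  | nil => cases m <;> simp [all2]
  | cons a l ih =>
    cases m with
    | nil => simp [all2]
    | cons b m => change band (f a b) (all2 f l m) = true ↔ _; rw [band_eq_true, ih]; simp

/-- Entry number `i`. -/
noncomputable def nthK {α : Type} (l : List α) (k : α → Bool) : ℕ → Bool :=
  List.rec (fun _ => false) (fun a _ ih i => Nat.rec (k a) (fun j _ => ih j) i) l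

theorem nthK_ok {α : Type} {l : List α} {k : α → Bool} {i : ℕ} (h : nthK l k i = true) : ∃ a ∈ l, k a = true := by
  induction l generalizing i with
  | nil => exact absurd h Bool.false_ne_true
  | cons a l ih =>
    rcases i with _ | i
    · exact ⟨a, List.mem_cons_self, h⟩
    · obtain ⟨b, m, e⟩ := ih (i := i) h
      exact ⟨b, List.mem_cons_of_mem _ m, e⟩

/-- Membership. -/
noncomputable def memL (x : ℕ) (l : List ℕ) : Bool := anyG l (Nat.beq x)

theorem memL_iff {x : ℕ} {l : List ℕ} : memL x l = true ↔ x ∈ l := by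
  rw [memL, anyG_iff]; exact ⟨fun ⟨a, m, e⟩ => beq_iff.1 e ▸ m, fun m => ⟨x, m, beq_iff.2 rfl⟩⟩

/-- Equality of lists. -/
noncomputable def beqL (l m : List ℕ) : Bool := all2 Nat.beq l m

theorem beqL_iff {l m : List ℕ} : beqL l m = true ↔ l = m := by
  rw [beqL, all2_iff, ← List.forall₂_eq_eq_eq]; simp only [beq_iff]

/-- `2 ^ length`. -/
noncomputable def p2 (l : List ℕ) : ℕ := List.rec (nat_lit 1) (fun _ _ ih => Nat.mul (nat_lit 2) ih) l

theorem p2_eq (l : List ℕ) : p2 l = 2 ^ l.length := by
  induction l with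
  | nil => rfl
  | cons a l ih => change 2 * p2 l = _; rw [ih, List.length_cons, pow_succ']

/-- Equality of codes. -/
def eqv (N x y : ℕ) : Bool := Nat.beq (Nat.mod x N) (Nat.mod y N)

/-- `x ^ p = e`. -/
def cjk (μ : ℕ → ℕ → ℕ) (x p e : ℕ) : Bool := Nat.beq (μ x p) (μ p e)

/-- Echelon form. -/
noncomputable def ech (N : ℕ) (l : List ℕ) : Bool :=
  List.rec true (fun a l ih => forceB (Nat.pow (nat_lit 2) (Nat.log2 (Nat.succ (Nat.xor a (Nat.pred a))))) fun m =>
    band (band (Nat.ble m N) (bn (Nat.beq (Nat.mod a m) (nat_lit 0))))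
      (band (allG l fun b => Nat.beq (Nat.mod b m) (nat_lit 0)) ih)) l

/-- The number of `i < n` with `f i`. -/
noncomputable def cntB (n : ℕ) (f : ℕ → Bool) : ℕ :=
  Nat.rec (motive := fun _ => ℕ → ℕ) (fun a => a) (fun i ih a => forceN (cnd (f i) (Nat.succ a) a) ih) n (nat_lit 0)

theorem cntB_eq (n : ℕ) (f : ℕ → Bool) : cntB n f = ((Finset.range n).filter fun i => f i = true).card := by
  have : ∀ a, Nat.rec (motive := fun _ => ℕ → ℕ) (fun a => a) (fun i ih a => forceN (cnd (f i) (Nat.succ a) a) ih) n a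
      = a + ((Finset.range n).filter fun i => f i = true).card := by
    induction n with
    | zero => simp
    | succ n ih =>
      intro a
      refine (forceN_eq _ _).trans ((ih _).trans ?_)
      rw [Finset.range_add_one, Finset.filter_insert]
      cases h : f n
      · simp
      · rw [if_pos rfl, Finset.card_insert_of_notMem (by simp), cnd_true]; omega
  exact (this 0).trans (zero_add _)

/-- The parities of the digit sums. -/
def PAR : ℕ := nat_lit 0x6996966996696996966969966996966996696996699696696996966996696996966969966996966969969669966969966996966996696996966969966996966996696996699696696996966996696996699696699669699696696996699696696996966996696996966969966996966996696996699696696996966996696996966969966996966969969669966969966996966996696996966969966996966969969669966969969669699669969669966969966996966969969669966969966996966996696996966969966996966996696996699696696996966996696996966969966996966969969669966969966996966996696996966969966996966996696996699696696996966996696996699696699669699696696996699696696996966996696996966969966996966996696996699696696996966996696996699696699669699696696996699696699669699669969669699696699669699696696996699696696996966996696996699696699669699696696996699696696996966996696996966969966996966996696996699696696996966996696996966969966996966969969669966969966996966996696996966969966996966996696996699696696996966996696996699696699669699696696996699696696996966996696996966969966996966996696996699696696996966996696996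

/-- The linear character with mask `c`. -/
def px (c x : ℕ) : Bool := bit PAR (Nat.land x c)

theorem par_tb : allBig 2048 (fun y => band (bit PAR (2 * y) == bit PAR y) (bit PAR (2 * y + 1) == !bit PAR y)) = true := by
  decide +kernel

theorem px_zero (x : ℕ) : px 0 x = false := by
  change bit PAR (x &&& 0) = false
  rw [Nat.and_zero]; decide +kernel

theorem px_step {c : ℕ} (h : c < 4096) (x : ℕ) : px c x = xor (decide (x % 2 = 1 ∧ c % 2 = 1)) (px (c / 2) (x / 2)) := by
  have a : (x &&& c) / 2 = x / 2 &&& c / 2 := Nat.and_div_two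
  have b : (x &&& c) % 2 = 1 ↔ x % 2 = 1 ∧ c % 2 = 1 := Nat.and_mod_two_eq_one
  have l : x / 2 &&& c / 2 < 2048 := lt_of_le_of_lt Nat.and_le_right (by omega)
  obtain ⟨p, q⟩ := band_eq_true.1 (allBig_iff.1 par_tb _ l)
  change bit PAR (x &&& c) = xor _ (bit PAR (x / 2 &&& c / 2))
  by_cases e : x % 2 = 1 ∧ c % 2 = 1
  · rw [show x &&& c = 2 * (x / 2 &&& c / 2) + 1 by have := b.2 e; omega, beq_iff_eq.1 q, decide_eq_true e]; simp
  · rw [show x &&& c = 2 * (x / 2 &&& c / 2) by have := mt b.1 e; omega, beq_iff_eq.1 p, decide_eq_false e]; simp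

variable {G : Type*} [Group G]

theorem el_ind {gs : List G} (Q : G → Prop) (h1 : Q 1) (hm : ∀ a b, Q a → Q b → Q (a * b)) (hg : ∀ g ∈ gs, Q g) (x : ℕ) :
    Q (el gs x) := by
  induction gs generalizing x with
  | nil => exact h1
  | cons g gs ih =>
    refine hm _ _ ?_ (ih (fun a m => hg a (List.mem_cons_of_mem _ m)) _)
    split_ifs
    exacts [hg g List.mem_cons_self, h1]

theorem el_drop (gs : List G) (k y : ℕ) : el (gs.drop k) y = el gs (2 ^ k * y) := by
  induction k generalizing gs with
  | zero => simp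
  | succ k ih =>
    cases gs with
    | nil => simp [el]
    | cons g gs => rw [List.drop_succ_cons, ih, pow_succ', mul_assoc, el_even]

theorem el_split (gs : List G) (k x : ℕ) : el gs x = el gs (x % 2 ^ k) * el (gs.drop k) (x / 2 ^ k) := by
  induction k generalizing gs x with
  | zero => simp [Nat.mod_one, el_zero]
  | succ k ih =>
    cases gs with
    | nil => simp [el]
    | cons g gs =>
      rw [List.drop_succ_cons, el, el, ih gs (x / 2), pow_succ', Nat.mod_mul_right_mod, Nat.mod_mul_right_div_self,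
        Nat.div_div_eq_div_mul, mul_assoc]

theorem mem_pow {gs : List G} {g : G} (h : g ∈ gs) : ∃ i < gs.length, g = el gs (2 ^ i) := by
  obtain ⟨i, rfl⟩ := List.mem_iff_get.1 h
  exact ⟨i, i.2, (el_pow_get gs i i.2).symm⟩

theorem pg_drop {gs : List G} {D : Dat} {N : ℕ} (h : PG gs D N) {k : ℕ} (hk : k ≤ gs.length) :
    ∃ D', PG (gs.drop k) D' (2 ^ (gs.length - k)) := by
  induction k generalizing gs D N with
  | zero => exact ⟨D, by simpa [h.len] using h⟩
  | succ k ih =>
    obtain _ | ⟨g, gs⟩ := gs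
    · simp at hk
    obtain _ | ⟨d, D⟩ := D
    · exact h.rel.elim
    simpa using ih (D := D) (N := 2 ^ gs.length) ⟨h.rel.2.2, h.ind.2, rfl⟩ (by simpa using hk)

theorem ind_card [Finite G] {l : List G} (h : Ind l) : 2 ^ l.length ≤ Nat.card (gen l) := by
  rw [← Nat.card_fin (2 ^ l.length)]
  refine Nat.card_le_card_of_injective (fun x : Fin (2 ^ l.length) => (⟨el l x, el_mem _ _⟩ : gen l)) fun x y e => ?_
  have := h.inj (congrArg Subtype.val e)
  rw [Nat.mod_eq_of_lt x.2, Nat.mod_eq_of_lt y.2] at this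
  exact Fin.ext this

theorem rel_ex {gs : List G} {D : Dat} (h : Rel gs D) {g : G} (hg : g ∈ gen gs) : ∃ x < 2 ^ gs.length, g = el gs x := by
  obtain ⟨x, rfl⟩ : ∃ x, g = el gs x := by
    refine closure_induction (fun a ha => ?_) ⟨0, (el_zero _).symm⟩ ?_ ?_ hg
    · obtain ⟨i, -, e⟩ := mem_pow ha; exact ⟨_, e⟩
    · rintro _ _ _ _ ⟨x, rfl⟩ ⟨y, rfl⟩; exact ⟨_, (h.mul x y).symm⟩
    · rintro _ _ ⟨x, rfl⟩; exact ⟨_, (h.inv x).symm⟩
  exact ⟨_, Nat.mod_lt _ (Nat.two_pow_pos _), (el_mod _ _).symm⟩

theorem rel_ind {gs : List G} {D : Dat} (h : Rel gs D) (c : 2 ^ gs.length ≤ Nat.card (gen gs)) : Ind gs := by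
  have inj : ∀ x < 2 ^ gs.length, ∀ y < 2 ^ gs.length, el gs x = el gs y → x = y := by
    intro x hx y hy e
    have s : Function.Surjective fun x : Fin (2 ^ gs.length) => (⟨el gs x, el_mem _ _⟩ : gen gs) := fun g =>
      let ⟨x, a, b⟩ := rel_ex h g.2; ⟨⟨x, a⟩, Subtype.ext b.symm⟩
    have := (s.bijective_of_nat_card_le (by simpa using c)).1 (a₁ := ⟨x, hx⟩) (a₂ := ⟨y, hy⟩) (Subtype.ext e)
    exact congrArg Fin.val this
  clear c
  induction gs generalizing D with
  | nil => trivial
  | cons g gs ih =>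
    obtain _ | ⟨d, D⟩ := D
    · exact h.elim
    rw [List.length_cons, pow_succ'] at inj
    refine ⟨fun m => ?_, ih h.2.2 fun x hx y hy e => ?_⟩
    · obtain ⟨x, a, b⟩ := rel_ex h.2.2 m
      have := inj (2 * 0 + 1) (by omega) (2 * x) (by omega) (by rw [el_odd, el_even, el_zero, mul_one, b])
      omega
    · have := inj (2 * x) (by omega) (2 * y) (by omega) (by rw [el_even, el_even, e])
      omega

/-- Conjugation by `w` maps `xs` to `ys`. -/
def Mq (gs : List G) (w : G) (xs ys : List ℕ) : Prop := List.Forall₂ (fun x y => cg (el gs x) w = el gs y) xs ys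

theorem Mq.refl (gs : List G) (xs : List ℕ) : Mq gs 1 xs xs := List.forall₂_same.2 fun _ _ => by simp [cg]

theorem Mq.trans {gs : List G} {v w : G} {xs ys zs : List ℕ} (a : Mq gs v xs ys) (b : Mq gs w ys zs) : Mq gs (v * w) xs zs := by
  induction a generalizing zs with
  | nil => cases b; exact .nil
  | cons e _ ih => cases b with | cons f b => exact .cons (by rw [← cg_cg, e, f]) (ih b)

theorem Mq.symm {gs : List G} {w : G} {xs ys : List ℕ} (a : Mq gs w xs ys) : Mq gs w⁻¹ ys xs := by
  induction a with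
  | nil => exact .nil
  | cons e _ ih => exact .cons (cg_symm e) ih

theorem Mq.map {gs : List G} {w : G} {xs ys : List ℕ} (a : Mq gs w xs ys) :
    (xs.map (el gs)).map (cg · w) = ys.map (el gs) := by
  induction a with
  | nil => rfl
  | cons e _ ih => rw [List.map_cons, List.map_cons, List.map_cons, ih, e]

theorem Mq.fix {gs : List G} {w p : G} {xs ys : List ℕ} (a : Mq gs w xs ys) (h : ∀ y ∈ ys, cg (el gs y) p = el gs y) :
    Mq gs (w * p) xs ys := a.trans (List.forall₂_same.2 h)

/-- A consistent chart. -/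
structure MU (gs : List G) (μ : ℕ → ℕ → ℕ) (N : ℕ) : Prop extends MR gs μ N where
  pg : ∃ D, PG gs D N

theorem MR.hm {gs : List G} {μ : ℕ → ℕ → ℕ} {N : ℕ} (h : MR gs μ N) (cs : List ℕ) (x : ℕ) :
    el gs (hm μ cs x) = el (cs.map (el gs)) x :=
  hm_el h.mul (MonoidHom.id G) (hs := cs.map (el gs)) (by
    rw [List.forall₂_map_left_iff]; exact List.forall₂_same.2 fun _ _ => rfl) x

namespace MU

variable {gs : List G} {μ : ℕ → ℕ → ℕ} {N : ℕ} (h : MU gs μ N)
include h

theorem eq {x y : ℕ} : eqv N x y = true ↔ el gs x = el gs y := let ⟨_, p⟩ := h.pg; beq_iff.trans (p.inj x y).symm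
theorem ex {g : G} (hg : g ∈ gen gs) : ∃ x < N, g = el gs x := let ⟨_, p⟩ := h.pg; p.ex hg
theorem card : Nat.card (gen gs) = N := let ⟨_, p⟩ := h.pg; p.card
theorem pgroup : IsPGroup 2 (gen gs) := let ⟨_, p⟩ := h.pg; p.pgroup
theorem md (x : ℕ) : el gs (x % N) = el gs x := by rw [← h.len, el_mod]
theorem lg : N.log2 = gs.length := by rw [← h.len, Nat.log2_two_pow]

theorem inj {x y : ℕ} (a : x < N) (b : y < N) (e : el gs x = el gs y) : x = y := by
  have := beq_iff.1 (h.eq.2 e)
  rwa [show Nat.mod x N = x from Nat.mod_eq_of_lt a, show Nat.mod y N = y from Nat.mod_eq_of_lt b] at this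

theorem beq {x y : ℕ} (a : x < N) (b : y < N) : Nat.beq x y = true ↔ el gs x = el gs y :=
  ⟨fun e => by rw [beq_iff.1 e], fun e => beq_iff.2 (h.inj a b e)⟩

theorem cj {x p e : ℕ} : cjk μ x p e = true ↔ cg (el gs x) (el gs p) = el gs e := by
  rw [cjk, h.beq (h.lt _ _) (h.lt _ _), h.mul, h.mul, cg, mul_assoc, inv_mul_eq_iff_eq_mul]

theorem one {x y : ℕ} : Nat.beq (μ x y) (nat_lit 0) = true ↔ el gs x * el gs y = 1 := by
  rw [h.beq (h.lt _ _) h.pos, h.mul, el_zero]

theorem z {x : ℕ} : eqv N x (nat_lit 0) = true ↔ el gs x = 1 := by rw [h.eq, el_zero]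

theorem cnj {p q : ℕ} (e : Nat.beq (μ p q) (nat_lit 0) = true) (x : ℕ) : el gs (μ (μ q x) p) = cg (el gs x) (el gs p) := by
  rw [h.mul, h.mul, cg, eq_inv_of_mul_eq_one_right (h.one.1 e)]

theorem hm_lt (cs : List ℕ) (x : ℕ) : hm μ cs x < N := by
  induction cs generalizing x with
  | nil => exact h.pos
  | cons c cs ih =>
    rw [hm_cons]
    split_ifs
    exacts [h.pos, h.lt _ _, ih _]

theorem hmq {w : G} {xs ys : List ℕ} (a : Mq gs w xs ys) (s : ℕ) : cg (el gs (hm μ xs s)) w = el gs (hm μ ys s) := by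
  rw [h.hm, ← cgH_apply]
  exact (hm_el h.mul (cgH w) (by rw [List.forall₂_map_left_iff]; exact List.Forall₂.imp (fun _ _ e => (cgH_apply _ _).trans e) a) s).symm

theorem hm_mem (cs : List ℕ) (s : ℕ) : el gs (hm μ cs s) ∈ gen (cs.map (el gs)) := by rw [h.hm]; exact el_mem _ _

omit h in
theorem gle (cs : List ℕ) : gen (cs.map (el gs)) ≤ gen gs :=
  gen_le.2 fun x m => by obtain ⟨c, -, rfl⟩ := List.mem_map.1 m; exact el_mem _ _

theorem gens {Q : G → Prop} (a : ∀ i < N.log2, Q (el gs (2 ^ i))) : ∀ g ∈ gs, Q g := fun g m => by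
  obtain ⟨i, l, rfl⟩ := mem_pow m; exact a i (h.lg ▸ l)

theorem drop {k : ℕ} (hk : 2 ^ k ≤ N) (x : ℕ) : el gs x ∈ gen (gs.drop k) ↔ x % 2 ^ k = 0 := by
  have l : k ≤ gs.length := (Nat.pow_le_pow_iff_right (by decide)).1 (h.len ▸ hk)
  obtain ⟨D, p⟩ := h.pg
  obtain ⟨D', p'⟩ := pg_drop p l
  refine ⟨fun m => ?_, fun e => ?_⟩
  · obtain ⟨y, -, e⟩ := p'.ex m
    have d : 2 ^ k ∣ N := h.len ▸ Nat.pow_dvd_pow 2 l
    rw [el_drop, p.inj] at e
    rw [← Nat.mod_mod_of_dvd x d, e, Nat.mod_mod_of_dvd _ d, Nat.mul_mod_right]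
  · rw [el_split gs k x, e, el_zero, one_mul]; exact el_mem _ _

theorem card_drop {k : ℕ} (hk : 2 ^ k ≤ N) : 2 ^ k * Nat.card (gen (gs.drop k)) = N := by
  have l : k ≤ gs.length := (Nat.pow_le_pow_iff_right (by decide)).1 (h.len ▸ hk)
  obtain ⟨D, p⟩ := h.pg
  obtain ⟨D', p'⟩ := pg_drop p l
  rw [p'.card, ← pow_add, Nat.add_sub_cancel' l, h.len]

theorem ech {l : List ℕ} (e : ech N l = true) : Ind (l.map (el gs)) := by
  induction l with
  | nil => trivial
  | cons a l ih =>
    change forceB _ (fun m => band (band (Nat.ble m N) (bn (Nat.beq (Nat.mod a m) (nat_lit 0))))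
      (band (allG l fun b => Nat.beq (Nat.mod b m) (nat_lit 0)) (D8.ech N l))) = true at e
    rw [forceB_eq] at e
    obtain ⟨e1, e2⟩ := band_eq_true.1 e
    obtain ⟨e1, e3⟩ := band_eq_true.1 e1
    obtain ⟨e2, e4⟩ := band_eq_true.1 e2
    refine ⟨fun m => bn_iff.1 e3 (beq_iff.2 ((h.drop (ble_iff.1 e1) a).1 ((gen_le.2 fun x m => ?_ : _ ≤ gen _) m))), ih e4⟩
    obtain ⟨c, m', rfl⟩ := List.mem_map.1 m
    exact (h.drop (ble_iff.1 e1) c).2 (beq_iff.1 (allG_iff.1 e2 c m'))

theorem ech_card [Finite G] {l : List ℕ} (e : D8.ech N l = true) : p2 l ≤ Nat.card (gen (l.map (el gs))) := by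
  have := ind_card (h.ech e)
  rwa [List.length_map, ← p2_eq] at this

end MU

theorem drop_le (gs : List G) (k : ℕ) : gen (gs.drop k) ≤ gen gs := gen_le.2 fun _ m => mem_gen (List.mem_of_mem_drop m)

theorem chi_cons {X : Subgroup G} (i : ∀ a b, a ∉ X → b ∉ X → a * b ∈ X) {gs : List G} {c : ℕ} {w : G} (l : c < 4096)
    (a : ∀ x, el gs x ∈ X ↔ px (c / 2) x = false) (b : w ∈ X ↔ c % 2 = 0) (x : ℕ) : el (w :: gs) x ∈ X ↔ px c x = false := by
  rw [px_step l, el]
  have a := a (x / 2)
  split_ifs with o
  · by_cases m : w ∈ X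
    · rw [X.mul_mem_cancel_left m, a, decide_eq_false (by have := b.1 m; omega)]; simp
    · rw [decide_eq_true ⟨o, by have := mt b.2 m; omega⟩]
      by_cases n : el gs (x / 2) ∈ X
      · rw [X.mul_mem_cancel_right n, a.1 n]; simpa using m
      · have : px (c / 2) (x / 2) = true := by simpa using mt a.2 n
        rw [this]; simpa using i _ _ m n
  · rw [one_mul, a, decide_eq_false fun e => o e.1]; simp

end Cfsg.Lib.D8
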