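import Cfsg.Agent.Lib.D8.Cb

/-! The rules of the tower checker (helper29). -/

set_option autoImplicit false

namespace Cfsg.Lib.D8

open Cfsg.Lib.H33 Cfsg.Lib.Calc

local infixr:35 " &. " => band
local infixr:30 " |. " => bor
local notation "N0" => (nat_lit 0)
local notation "N1" => (nat_lit 1)
local notation "N2" => (nat_lit 2)

/-- The chart, the frame and the character with kernel `X`. -/
structure Cx where
  g : Gd
  n : ℕ
  t : ℕ
  f : ℕ
  z : ℕ
  v1 : ℕ
  v2 : ℕ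
  d : ℕ
  chi : ℕ
  tn : ℕ

/-- The known facts: fusion maps, conjugates and non-conjugates of `t`, centralisers, centric lists, extremal elements, the Sylow
property; `pn`, `pr` are properties of the element inducing the first fusion map. -/
structure St where
  ff : List (List ℕ × List ℕ)
  pl : List ℕ
  nl : List ℕ
  cz : List (ℕ × ℕ × ℕ)
  cn : List (List ℕ)
  an : List ℕ
  syl : Bool
  pn : Bool
  pr : List ℕ

/-- The multiplication. -/
noncomputable def Cx.m (c : Cx) : ℕ → ℕ → ℕ := mu c.g c.n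

/-- The first fusion map. -/
def St.hd (s : St) : List ℕ × List ℕ := s.ff.headD ([], [])

/-- Apply a fusion map through selectors read from `W`. -/
noncomputable def selK (μ : ℕ → ℕ → ℕ) (N : ℕ) (dm cd xs : List ℕ) : ℕ → (List ℕ → ℕ → Bool) → Bool :=
  List.rec (fun W k => k [] W) (fun x _ ih W k => forceB (Nat.land W (nat_lit 4095)) fun s => band (eqv N (hm μ dm s) x)
    (forceB (hm μ cd s) fun y => forceB (Nat.shiftRight W (nat_lit 12)) fun W => ih W fun ys W => k (y :: ys) W)) xs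

/-- Apply a word of inner and known fusion maps. -/
noncomputable def wd (μ : ℕ → ℕ → ℕ) (N : ℕ) (ff : List (List ℕ × List ℕ)) (W : ℕ) (xs : List ℕ) (k : List ℕ → Bool) : Bool :=
  Nat.rec (motive := fun _ => ℕ → List ℕ → Bool) (fun _ xs => k xs) (fun _ ih W xs => forceB (Nat.land W (nat_lit 4095)) fun a =>
    cB (Nat.beq a (nat_lit 0))
      (forceB (look W (nat_lit 1)) fun p => forceB (look W (nat_lit 2)) fun q => band (Nat.beq (μ p q) (nat_lit 0))
        (mapK (fun x => μ (μ q x) p) xs fun ys => forceB (Nat.shiftRight W (nat_lit 36)) fun W => ih W ys))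
      (nthK ff (fun e => cB (od a) (selK μ N e.1 e.2 xs (Nat.shiftRight W (nat_lit 12)) fun ys W => ih W ys)
        (selK μ N e.2 e.1 xs (Nat.shiftRight W (nat_lit 12)) fun ys W => ih W ys)) (Nat.div (Nat.pred a) (nat_lit 2))))
    (Nat.land W (nat_lit 4095)) (Nat.shiftRight W (nat_lit 12)) xs

/-- A known conjugate of `t`. -/
noncomputable def pos (c : Cx) (s : St) (x : ℕ) : Bool := bor (eqv c.n x c.t) (memL x s.pl)

/-- Different values of the character. -/
noncomputable def dX (c : Cx) (x y : ℕ) : Bool := cB (px c.chi x) (bn (px c.chi y)) (px c.chi y)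

/-- A known non-conjugate of `t`. -/
noncomputable def neg (c : Cx) (s : St) (y : ℕ) : Bool :=
  bor (eqv c.n y c.z) (bor (memL y s.nl) (bor (dX c y c.t) (bor (eqv c.n y (nat_lit 0)) (bn (Nat.beq (c.m y y) (nat_lit 0))))))

/-- A centric list moved by a word. -/
noncomputable def cnW (c : Cx) (s : St) (j W : ℕ) (k : List ℕ → Bool) : Bool :=
  nthK ([c.t, c.f, c.z, c.v1] :: [c.t, c.m c.f c.z, c.z, c.v2] :: s.cn) (fun a => mapK (fun x => x) a fun a => wd c.m c.n s.ff W a k) j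

/-- The bit set of a list. -/
noncomputable def bs (N : ℕ) (l : List ℕ) : ℕ :=
  List.rec (nat_lit 0) (fun a _ ih => Nat.lor ih (Nat.shiftLeft (nat_lit 1) (Nat.mod a N))) l

/-- `y` and `u` are not conjugate in `P`: the list `l` is closed under conjugation. -/
noncomputable def noK (μ : ℕ → ℕ → ℕ) (N y u l gi : ℕ) : Bool :=
  uk l fun l => forceB (bs N l) fun B => band (band (bit B (Nat.mod y N)) (bn (bit B (Nat.mod u N))))
    (allLt (Nat.log2 N) fun i => forceB (Nat.pow (nat_lit 2) i) fun g => forceB (look gi i) fun q =>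
      band (Nat.beq (μ g q) (nat_lit 0)) (allG l fun x => bit B (μ (μ q x) g)))

/-- The head of a list. -/
noncomputable def hK (l : List ℕ) (k : ℕ → Bool) : Bool := List.rec false (fun a _ _ => k a) l

/-- Candidates for an element of `P` mapping `ys` to `us`. -/
noncomputable def spec (c : Cx) (s : St) (tag a b q : ℕ) (ys us : List ℕ) (k : ℕ → (ℕ → ℕ) → Bool) : Bool :=
  cB (Nat.beq tag (nat_lit 0)) (k c.n fun i => i) <| cB (Nat.beq tag (nat_lit 1)) (hK ys fun y => hK us fun u => noK c.m c.n y u a b) <|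
  band (all2 (fun y u => cjk c.m y q u) ys us) <| cB (Nat.beq tag (nat_lit 2))
    (cnW c s a b fun l => band (beqL l ys) (k (p2 ys) fun i => c.m (hm c.m ys i) q))
    (nthK s.cz (fun e => hK ys fun y => band (eqv c.n e.1 y) (forceB e.2.1 fun T => k e.2.2 fun i => c.m (look T i) q)) a)

/-- Enlarge the bit set `S` by conjugation with the elements `CG` (inverses `CI`). -/
noncomputable def cov (μ : ℕ → ℕ → ℕ) (ok : ℕ → Bool) (CG CI st S : ℕ) (k : ℕ → Bool) : Bool :=
  forceB (ln CG) fun m => band (allLt m fun i => forceB (look CG i) fun g => band (Nat.beq (μ g (look CI i)) (nat_lit 0)) (ok g))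
    (Nat.rec (motive := fun _ => ℕ → Bool) k (fun j ih S => forceB (look st (Nat.mul (nat_lit 2) j)) fun e =>
      forceB (look st (Nat.succ (Nat.mul (nat_lit 2) j))) fun i => band (band (bit S e) (blt i m))
        (forceB (Nat.lor S (Nat.shiftLeft (nat_lit 1) (μ (μ (look CI i) e) (look CG i)))) ih)) (Nat.div (ln st) (nat_lit 2)) S)

/-- Pairs `y, y ^ c` for the image `c` of `r`, through selectors. -/
noncomputable def relK (μ : ℕ → ℕ → ℕ) (xs ys : List ℕ) (r sx se : ℕ) (k : List ℕ → List ℕ → Bool) : Bool :=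
  uk sx fun sx => uk se fun se => band (all2 (fun a b => forceB (hm μ xs a) fun x => cjk μ x r (hm μ xs b)) sx se)
    (mapK (hm μ ys) sx fun y => mapK (hm μ ys) se fun u => k y u)

/-- A copy of `Dum`. -/
def Eum : Dat := [(0, [9, 2, 4, 8, 80, 32, 64, 384, 256]), (0, [9, 2, 4, 8, 80, 32, 64, 128]), (0, [9, 18, 4, 8, 16, 32, 64]),
  (0, [1, 18, 4, 40, 16, 32]), (0, [1, 18, 4, 8, 16]), (0, [1, 2, 4, 8]), (0, [1, 2, 4]), (0, [1, 2]), (0, [1]), (0, [])]
/-- A copy of `Dvm`. -/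
def Evm : Dat := [(0, [1, 426, 436, 8, 16, 64, 32, 480, 256]), (0, [105, 238, 4, 8, 64, 240, 16, 128]), (8, [9, 90, 108, 8, 16, 32, 64]),
  (4, [25, 46, 4, 8, 16, 32]), (16, [17, 2, 4, 8, 16]), (8, [1, 2, 4, 8]), (0, [1, 2, 4]), (0, [1, 2]), (0, [1]), (0, [])]
/-- A copy of `Dwm`. -/
def Ewm : Dat := [(0, [3, 2, 44, 8, 144, 96, 64, 128]), (0, [1, 18, 124, 8, 16, 96, 64]), (0, [61, 18, 4, 40, 16, 32]), (4, [1, 2, 4, 8, 16]),
  (4, [1, 2, 4, 8]), (4, [1, 2, 4]), (0, [1, 2]), (0, [1]), (0, [])]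

noncomputable section

/-- Head and tail. -/
def hT (l : List ℕ) (k : ℕ → List ℕ → Bool) : Bool := List.rec false (fun a l _ => k a l) l
/-- Emptiness. -/
def nul {α : Type} (l : List α) : Bool := List.rec true (fun _ _ _ => false) l
/-- The first fusion map. -/
def hdK (s : St) (k : List ℕ → List ℕ → Bool) : Bool := List.rec (k [] []) (fun p _ _ => Prod.rec k p) s.ff
/-- A new first fusion map. -/
def St.nh (s : St) (xs ys : List ℕ) (pn : Bool) (pr : List ℕ) : St := { s with ff := (xs, ys) :: s.ff, pn := pn, pr := pr }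
/-- Replace the first fusion map. -/
def St.rh (s : St) (xs ys : List ℕ) : St := { s with ff := (xs, ys) :: s.ff.tail }
/-- Commuting codes. -/
def com (c : Cx) (x y : ℕ) : Bool := cjk c.m x y x
/-- Outside the kernel of the character. -/
def Cx.o (c : Cx) (x : ℕ) : Bool := px c.chi x
/-- Square one. -/
def sq1 (c : Cx) (x : ℕ) : Bool := Nat.beq (c.m x x) N0
/-- Run through a list, reading from a stream. -/
def rdN {α : Type} (f : α → ℕ → (ℕ → Bool) → Bool) (l : List α) : ℕ → (ℕ → Bool) → Bool :=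
  List.rec (fun W k => k W) (fun a _ ih W k => f a W fun W => ih W k) l
/-- One field for each member. -/
def rdA {α : Type} (f : α → ℕ → Bool) : List α → ℕ → (ℕ → Bool) → Bool :=
  rdN fun a W k => forceB (Nat.land W (nat_lit 4095)) (f a) &. forceB (Nat.shiftRight W (nat_lit 12)) k
/-- The generators. -/
def gk (n : ℕ) (k : List ℕ → Bool) : Bool :=
  Nat.rec (motive := fun _ => List ℕ → Bool) k (fun i ih acc => forceB (Nat.pow N2 i) fun a => ih (a :: acc)) (Nat.log2 n) []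
/-- For all generators. -/
def allS (n : ℕ) (f : ℕ → ℕ → Bool) : Bool := allLt (Nat.log2 n) fun i => forceB (Nat.pow N2 i) (f i)

def kc (x W : ℕ) (c : Cx) (s : St) : Bool := wd c.m c.n s.ff W [x] fun l => hK l fun y =>
  dX c x y |. (bn (eqv c.n x N0) &. eqv c.n y N0) |. (pos c s x &. neg c s y)

def kb (x W g : ℕ) (c : Cx) (s : St) : Bool := wd c.m c.n s.ff W [x] fun l => hK l fun y =>
  pos c s y &. uk g fun g => ech c.n g &. allG g (com c x) &. blt c.tn (p2 g)

def kn (sx g : ℕ) (fx : Bool) (CG CI st : ℕ) (c : Cx) (s : St) : Bool := hdK s fun xs ys =>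
  forceB (hm c.m xs sx) fun x => forceB (hm c.m ys sx) fun y => uk g fun g => ech c.n g &. allG g (com c x) &.
    (s.pn |. allG g fun a => memL a s.pr) &. cov c.m (fun a => bn fx |. bn (c.o a)) CG CI st (Nat.shiftLeft N1 y) fun S =>
      cB fx (c.o c.t &. allG g (fun a => bn (c.o a)) &. blt c.n (Nat.mul N2 (Nat.mul (cntB c.n (bit S)) (p2 g))))
        (blt c.n (Nat.mul (cntB c.n (bit S)) (p2 g)))

def kin (st p : ℕ) (c : Cx) (s : St) : Bool :=
  s.pn &. hdK s fun xs ys => eqv c.n (hm c.m xs st) c.t &. cjk c.m c.t p (hm c.m ys st)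

def ksyl (_ : Cx) (s : St) : Bool := s.syl &. s.pn

def inV (c : Cx) (v y : ℕ) : Bool := eqv c.n y c.z |. eqv c.n y v |. eqv c.n y (c.m v c.z)

def kA1 (W F v F' v' : ℕ) (c : Cx) (s : St) : Bool := wd c.m c.n s.ff W [c.t, F, c.z, v] fun l =>
  hT l fun a l => hT l fun b l => hT l fun x l => hK l fun y => eqv c.n a c.t &. bn (eqv c.n b F &. inV c v x &. inV c v y) &.
    bn (Nat.beq c.tn (nat_lit 64) &. eqv c.n b F' &. inV c v' x &. inV c v' y)

def kA (i : Bool) (W : ℕ) (c : Cx) (s : St) : Bool :=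
  forceB (c.m c.f c.z) fun e => cB i (kA1 W e c.v2 c.f c.v1 c s) (kA1 W c.f c.v1 e c.v2 c s)

def kF (x W : ℕ) (c : Cx) (s : St) : Bool := wd c.m c.n s.ff W [c.t, x] fun l => hT l fun a l => hK l fun y =>
  eqv c.n a c.t &. com c c.t x &. allLt (nat_lit 8) fun i => bn (eqv c.n y (c.m x (hm c.m [c.v2, c.v1, c.z] i)))

def nch (μ : ℕ → ℕ → ℕ) (a l : List ℕ) : ℕ → Bool :=
  List.rec (fun _ => true) (fun x l ih W => mapK (fun y => y) (l ++ a) fun r => rdA (fun y e => cjk μ y x (hm μ r e)) r W ih) l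

def kS (j W0 l ss W : ℕ) (c : Cx) (s : St) : Bool := cnW c s j W0 fun a => uk l fun l => nch c.m a l ss &.
  wd c.m c.n s.ff W (l ++ a) fun tp => beqL (tp.drop l.length) a &. mapK (fun y => y) (tp.take l.length) fun m =>
    allLt (p2 a) fun i => forceB (hm c.m a i) fun p => bn (all2 (fun x y => cjk c.m x p y) l m)

def kT (lp lq CG CI s1 s0 : ℕ) (c : Cx) (s : St) : Bool := bn (c.o c.t) &. Nat.ble N2 c.n &. uk lp fun lp => uk lq fun lq =>
  allG lp (pos c s) &. allG lq (neg c s) &. cov c.m (fun _ => true) CG CI s1 (bs c.n lp) fun S1 =>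
    cov c.m (fun _ => true) CG CI s0 (bs c.n lq) fun S0 =>
      (allBig (Nat.div c.n N2) fun i => forceB (Nat.succ (Nat.mul N2 i)) fun y => bit S1 y |. bit S0 y |. bn (sq1 c y)) &.
      bn (Nat.beq (Nat.mod (Nat.mul c.tn (cntB (Nat.div c.n N2) fun i => bit S1 (Nat.succ (Nat.mul N2 i)))) (Nat.mul N2 c.n)) N0)

def cas (x : ℕ) (k k' : Cx → St → Bool) (c : Cx) (s : St) : Bool :=
  k c { s with pl := x :: s.pl } &. k' c { s with nl := x :: s.nl }

def czs (y T n : ℕ) (k : Cx → St → Bool) (c : Cx) (s : St) : Bool :=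
  Nat.rec (motive := fun _ => ℕ → Bool) (fun B => allBig c.n fun g => bit B g |. bn (com c y g))
    (fun i ih B => forceB (Nat.lor B (Nat.shiftLeft N1 (look T i))) ih) n N0 &. k c { s with cz := (y, T, n) :: s.cz }

def czp (y W g T : ℕ) (k : Cx → St → Bool) (c : Cx) (s : St) : Bool :=
  (wd c.m c.n s.ff W [y] fun l => hK l (pos c s)) &. (uk g fun g => ech c.n g &. allG g (com c y) &. Nat.beq c.tn (p2 g) &.
    allS c.tn fun _ a => Nat.beq (look T a) (hm c.m g a)) &. tabA c.m c.tn T &. k c { s with cz := (y, T, c.tn) :: s.cz }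

def anz (y : ℕ) (k : Cx → St → Bool) (c : Cx) (s : St) : Bool :=
  s.syl &. allS c.n (fun _ => com c y) &. k c { s with an := y :: s.an }

def anc (x W rs : ℕ) (k : Cx → St → Bool) (c : Cx) (s : St) : Bool := wd c.m c.n s.ff W [x] fun l => hK l fun y =>
  (eqv c.n y c.t |. memL y s.an) &. uk rs fun rs => allG rs (com c x) &. k c (s.nh [x] [y] false rs)

def ext (j W0 xs W sa rs qs ss : ℕ) (k : Cx → St → Bool) (c : Cx) (s : St) : Bool := cnW c s j W0 fun a => uk xs fun xs =>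
  wd c.m c.n s.ff W xs fun ys => rdA (fun y e => eqv c.n y (hm c.m ys e)) a sa (fun _ => true) &. uk rs fun rs => uk qs fun qs =>
    Nat.beq (p2 rs) (p2 qs) &. rdN (fun p => rdA (fun u e => cjk c.m u.1 p.1 (hm c.m xs e) &. cjk c.m u.2 p.2 (hm c.m ys e))
      (xs.zip ys)) (rs.zip qs) ss (fun _ => true) &. k c (s.nh xs ys false rs)

def ordf (c : Cx) (j x : ℕ) : Bool :=
  Nat.rec (motive := fun _ => ℕ → Bool) (fun u => bn (eqv c.n u N0) &. sq1 c u) (fun _ ih u => forceB (c.m u u) ih) j x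

def sqK (c : Cx) (xs ys : List ℕ) (r sq j : ℕ) (k : (ℕ → Bool) → Bool) : Bool :=
  cB (Nat.beq sq N0) (ordf c j r &. k (ordf c j))
    (Nat.beq (hm c.m xs sq) (c.m r r) &. forceB (hm c.m ys sq) fun e => k fun x => Nat.beq (c.m x x) e)

def usK (c : Cx) (s : St) (xs ys : List ℕ) (r us st : ℕ) (k : List ℕ → Bool) : Bool := uk us fun us =>
  (nul us |. s.pn &. (bn (Nat.beq c.tn (nat_lit 64)) |. com c r c.d) &. allG [c.v2, c.v1, c.f, c.z, c.t] (com c r) &.
    eqv c.n (hm c.m xs st) c.t &. forceB (hm c.m ys st) fun y => allG us (com c y)) &. k us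

def dfs (r x1 e1 x2 e2 sq j tag a b q us st CG CI sm S : ℕ) (k : Cx → (ℕ → St) → ℕ → Bool) (c : Cx) (s : St) : Bool :=
  (s.pn |. memL r s.pr) &. hdK s fun xs ys => relK c.m xs ys r x1 e1 fun y1 u1 => spec c s tag a b q y1 u1 fun n φ =>
    relK c.m xs ys r x2 e2 fun y2 u2 => sqK c xs ys r sq j fun ψ => usK c s xs ys r us st fun us =>
      (cov c.m (fun g => allG ys fun y => com c y g) CG CI sm S fun S' => allBig n fun i => forceB (φ i) fun x =>
        bit S' x |. dX c r x |. bn (ψ x) |. bn (allG us (com c x)) |. bn (all2 (fun y u => cjk c.m y x u) y2 u2)) &.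
      k c (fun e => s.rh (r :: xs) (e :: ys)) S

def mulh (a b : ℕ) (k : Cx → St → Bool) (c : Cx) (s : St) : Bool := hdK s fun xs ys =>
  forceB (c.m (hm c.m xs a) (hm c.m xs b)) fun x => forceB (c.m (hm c.m ys a) (hm c.m ys b)) fun y => k c (s.rh (x :: xs) (y :: ys))

def clm (k k' : Cx → St → Bool) (c : Cx) (s : St) : Bool := k c { s with syl := true } &. k' c (s.nh [] [] true [])

def lft (W q l gi : ℕ) (k : Cx → St → Bool) (c : Cx) (s : St) : Bool := gk c.n fun gl => wd c.m c.n s.ff W gl fun ys =>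
  all2 (fun g y => cjk c.m g q (hm c.m ys y)) gl ys &. noK c.m c.n c.t (hm c.m ys c.t) l gi &. k c (s.nh gl ys true [])

def extn (A se us tag a b q S : ℕ) (k : Cx → St → ℕ → ℕ → Bool) (c : Cx) (s : St) : Bool := s.pn &. hdK s fun xs ys =>
  (allS c.n fun i g => forceB (look se i) fun e => eqv c.n (hm c.m xs e) g &. Nat.beq (hm c.m ys e) (look A g)) &.
    tabA c.m c.n A &. uk us fun y1 => mapK (fun y => look A (look A (Nat.mod y c.n))) y1 fun u1 => spec c s tag a b q y1 u1 fun n φ =>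
      (allBig n fun i => forceB (φ i) fun x => bit S x |. c.o x |. bn (Nat.beq (look A x) x) |.
        bn (allS c.n fun _ g => cjk c.m g x (look A (look A g)))) &. k c s A S

def mp2 (l : List ℕ) : List ℕ := List.rec [] (fun a _ ih => Nat.mul N2 a :: ih) l

def dblC (c : Cx) (g : Gd) (x : ℕ) : Cx := ⟨g, Nat.mul N2 c.n, Nat.mul N2 c.t, Nat.mul N2 c.f, Nat.mul N2 c.z, Nat.mul N2 c.v1,
  Nat.mul N2 c.v2, Nat.mul N2 c.d, Nat.add (Nat.mul N2 c.chi) x, c.tn⟩

def dblS (s : St) : St := ⟨s.ff.map fun e => (mp2 e.1, mp2 e.2), mp2 s.pl, mp2 s.nl, [], s.cn.map mp2, [], false, false, []⟩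

def cE1 (k k' : Cx → St → Bool) (c : Cx) (s : St) (g : Gd) : Bool :=
  k (dblC c g N0) (dblS s) &. (bn (c.o c.t) |. k' (dblC c g N1) (dblS s))

def cE (e B T : ℕ) (k k' : Cx → St → Bool) (r : Cx → St → ℕ → ℕ → Bool) (c : Cx) (s : St) (A S : ℕ) : Bool :=
  blt c.chi (nat_lit 2048) &. tabB c.m c.n A B e &. cB (Nat.beq T N0) (cE1 k k' c s (.ext A B c.n c.g))
    (tabT (mu (.ext A B c.n c.g) (Nat.mul N2 c.n)) (Nat.mul N2 c.n) T &. cE1 k k' c s (.tb T (Nat.mul N2 c.n) (.ext A B c.n c.g))) &.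
    forceB (Nat.xor S (Nat.shiftLeft N1 e)) (r c s A)

def cD (e : ℕ) (k : Cx → St → Bool) (r : Cx → (ℕ → St) → ℕ → Bool) (c : Cx) (mk : ℕ → St) (S : ℕ) : Bool :=
  k c (mk e) &. forceB (Nat.xor S (Nat.shiftLeft N1 e)) (r c mk)

def cyc (c : Cx) (k0 : Bool) (md g gi : ℕ) : Bool := Nat.ble md c.n &. Nat.beq (c.m g gi) N0 &. bn (k0 &. od g) &.
  (allS c.n fun _ a => blt a md |. Nat.beq (Nat.mod (c.m (c.m gi a) g) md) N0) &. allLt md fun r => (k0 &. od r) |.
    Nat.beq r N0 |. forceB (c.m gi r) fun r => Nat.beq (Nat.mod r md) N0 |. forceB (c.m gi r) fun r =>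
      Nat.beq (Nat.mod r md) N0 |. Nat.beq (Nat.mod (c.m gi r) md) N0

def syr (x : ℕ) (k0 : Bool) (j g gi rs CG CI sm S : ℕ) (k : Cx → (ℕ → St) → ℕ → Bool) (c : Cx) (s : St) : Bool :=
  s.syl &. bn (eqv c.n x N0) &. sq1 c x &. uk rs fun rs => allG rs (com c x) &. forceB (Nat.pow N2 j) fun md =>
    cB (Nat.beq j N0) (bn k0) (bn (c.o x) &. cyc c k0 md g gi) &. (bn k0 |. Nat.beq c.chi N1 &. c.o c.t) &.
      (cov c.m (fun _ => true) CG CI sm S fun S' => allBig (Nat.div c.n md) fun i => forceB (Nat.mul md i) fun y =>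
        bit S' y |. Nat.beq y N0 |. dX c x y |. bn (sq1 c y)) &.
      k c (fun e => Bool.rec (St.nh { s with an := e :: s.an } [x] [e] false rs) (s.nh [x] [e] false []) k0) S

def ela (c : Cx) (a : List ℕ) : Bool := allG a fun x => sq1 c x &. allG a fun y => com c y x

def cnt (a sa j sb T2 T3 : ℕ) (k : Cx → St → Bool) (c : Cx) (s : St) : Bool := uk a fun a => ela c a &.
  rdA (fun y e => cjk c.m y c.t (hm c.m a e)) a sa (fun _ => true) &. (cnW c s j N0 fun b =>
    rdA (fun x e => eqv c.n x (hm c.m (c.t :: a) e)) b sb (fun _ => true) &. allLt (p2 b) fun i => forceB (hm c.m b i) fun x =>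
      Nat.beq x (hm c.m a (look T2 i)) |. anyG a fun y => bn (com c y x)) &.
    (allLt (p2 a) fun i => forceB (c.m c.t (hm c.m a i)) fun y => cjk c.m c.t (hm c.m a (look T3 i)) y |. neg c s y) &.
    k c { s with cn := a :: s.cn }

def Cx.beq (c e : Cx) : Bool := Nat.beq c.n e.n &. Nat.beq c.t e.t &. Nat.beq c.f e.f &. Nat.beq c.z e.z &. Nat.beq c.v1 e.v1 &.
  Nat.beq c.v2 e.v2 &. Nat.beq c.d e.d &. Nat.beq c.chi e.chi &. Nat.beq c.tn e.tn &. c.g.beq e.g

def cut (env : List (Cx × St)) (i : ℕ) (c : Cx) (s : St) : Bool := nthK env (fun e => c.beq e.1 &.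
  (allG e.2.ff fun p => anyG s.ff fun q => beqL p.1 q.1 &. beqL p.2 q.2) &. (allG e.2.pl fun x => memL x s.pl) &.
  (allG e.2.nl fun x => memL x s.nl) &.
  (allG e.2.cz fun p => anyG s.cz fun q => Nat.beq p.1 q.1 &. Nat.beq p.2.1 q.2.1 &. Nat.beq p.2.2 q.2.2) &.
  (allG e.2.cn fun p => anyG s.cn (beqL p)) &. (allG e.2.an fun x => memL x s.an) &. (bn e.2.syl |. s.syl) &.
  (bn e.2.pn &. nul e.2.pr |. hdK e.2 fun xs ys => hdK s fun xs' ys' => beqL xs xs' &. beqL ys ys' &. (bn e.2.pn |. s.pn) &.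
    allG e.2.pr fun x => memL x s.pr)) i

def relG (μ : ℕ → ℕ → ℕ) (g : Gd) : List ℕ → Bool :=
  Gd.rec nul (fun A B M _ ih l => hT l fun w l => Nat.beq M (p2 l) &. Nat.beq (μ w w) (hm μ l (look B N0)) &.
    (allS M fun _ a => cjk μ (hm μ l a) w (hm μ l (look A a))) &. ih l) (fun _ M _ ih l => Nat.beq M (p2 l) &. ih l) g

def chiK (c : Cx) (l : List ℕ) : ℕ → Bool :=
  List.rec (fun x => Nat.beq x N0) (fun a _ ih x => cB (c.o a) (od x) (bn (od x)) &. forceB (Nat.div x N2) ih) l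

def frm (c e : Cx) (H : ℕ → ℕ) : Bool := Nat.beq c.tn e.tn &. eqv c.n (H e.t) c.t &. eqv c.n (H e.z) c.z &.
  (forceB (H e.v1) fun a => forceB (H e.v2) fun b => forceB (H e.f) fun f =>
    (eqv c.n a c.v1 &. eqv c.n b c.v2 &. (eqv c.n f c.f |. eqv c.n f (c.m c.f c.t))) |.
    (eqv c.n a c.v2 &. eqv c.n b c.v1 &. (eqv c.n f (c.m c.f c.z) |. eqv c.n f (c.m (c.m c.f c.z) c.t)))) &.
  (bn (Nat.beq c.tn (nat_lit 64)) |. forceB (H e.d) fun d => com c c.t d &. bn (com c c.v1 d) &. bn (cjk c.m c.v1 d (c.m c.v1 c.z)))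

def iso (genv : List Gd) (e : Cx) (u : St) (i h iv : ℕ) (Ws : List ℕ) (k : Cx → St → Bool) (c : Cx) (s : St) : Bool :=
  nthK genv (fun g => g.beq e.g) i &. Nat.beq e.n c.n &. uk h fun h => Nat.beq c.n (p2 h) &. relG c.m e.g h &.
    (allS c.n fun i g => eqv c.n (hm c.m h (look iv i)) g) &. frm c e (hm c.m h) &. blt e.chi (nat_lit 4096) &. chiK c h e.chi &.
    all2 (fun p W => mapK (hm c.m h) p.1 fun xs => wd c.m c.n s.ff W xs fun zs =>
      all2 (fun z y => eqv c.n z (hm c.m h y)) zs p.2) u.ff Ws &.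
    (allG u.pl fun x => forceB (hm c.m h x) (pos c s)) &. (allG u.nl fun x => forceB (hm c.m h x) (neg c s)) &. nul u.cz &.
    (allG u.cn fun a => mapK (hm c.m h) a fun b => anyG s.cn (beqL b)) &.
    (allG u.an fun x => forceB (hm c.m h x) fun y => memL y s.an) &. (bn u.syl |. s.syl) &. bn u.pn &. nul u.pr &. k e u

def e8 (x y z : ℕ) (c : Cx) (s : St) : Bool := s.syl &. allG [x, y, z] (fun a => bn (c.o a)) &. ela c [x, y, z] &.
  (allLt (nat_lit 8) fun i => Nat.beq i N0 |. bn (Nat.beq (hm c.m [x, y, z] i) N0)) &.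
  mapK (hm c.m [x, y, z]) [0, 1, 2, 3, 4, 5, 6, 7] fun E => allBig c.n fun g =>
    c.o g |. bn (com c x g) |. bn (com c y g) |. bn (com c z g) |. memL g E

def r64 (u : ℕ) (c : Cx) (s : St) : Bool :=
  s.syl &. Nat.ble c.n (nat_lit 64) &. bn (c.o u) &. forceB (c.m u u) fun v => bn (sq1 c v)

def sxK (c : Cx) (g : List ℕ) : Bool :=
  allG g (fun a => bn (c.o a)) &. ech c.n g &. Nat.beq c.n (cnd (c.o c.t) (Nat.mul N2 (p2 g)) (p2 g))

def cl2 (g gi x y : ℕ) (c : Cx) (s : St) : Bool := s.syl &. uk g fun g => uk gi fun gi => sxK c g &.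
  all2 (fun a b => Nat.beq (c.m a b) N0) g gi &. (allG (g.zip gi) fun p => allG (g.zip gi) fun q =>
    forceB (c.m (c.m p.2 q.2) (c.m p.1 q.1)) fun e => allG g (com c e)) &. memL x g &. memL y g &. bn (com c x y) &.
    (Nat.beq (p2 g) (nat_lit 32) |. Nat.beq (p2 g) (nat_lit 128) |. Nat.beq (p2 g) (nat_lit 256) &. c.o c.t)

def relD (μ : ℕ → ℕ → ℕ) (cs : List ℕ) : Dat → Bool :=
  List.rec nul (fun c cs ih D => List.rec false (fun d D _ => Nat.beq (μ c c) (hm μ cs d.1) &.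
    all2 (fun h e => cjk μ h c (hm μ cs e)) cs d.2 &. ih D) D) cs

def mdl (j h se : ℕ) (c : Cx) (s : St) : Bool := s.syl &. uk h fun h => uk se fun se => mapK (hm c.m h) se fun g => sxK c g &.
  allG h (fun a => bn (c.o a)) &. Nat.beq (p2 h) (p2 g) &. cB (c.o c.t) (Nat.beq (p2 h) (nat_lit 1024) &.
    cB (Nat.beq j N0) (relD c.m h Eum) (relD c.m h Evm))
    (Nat.beq (p2 h) (nat_lit 512) &. Nat.beq c.tn (nat_lit 64) &. relD c.m h Ewm)

/-- Certificates. -/
inductive Pf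
  | nil
  | cD (e : ℕ) (p r : Pf)
  | cE (e B T : ℕ) (p q r : Pf)
  | kc (x W : ℕ)
  | kb (x W g : ℕ)
  | kn (sx g : ℕ) (fx : Bool) (CG CI st : ℕ)
  | kin (st p : ℕ)
  | ksyl
  | kA (i : Bool) (W : ℕ)
  | kF (x W : ℕ)
  | kS (j W0 l ss W : ℕ)
  | kT (lp lq CG CI s1 s0 : ℕ)
  | cas (x : ℕ) (p q : Pf)
  | czs (y T n : ℕ) (p : Pf)
  | czp (y W g T : ℕ) (p : Pf)
  | anz (y : ℕ) (p : Pf)
  | anc (x W rs : ℕ) (p : Pf)
  | ext (j W0 xs W sa rs qs ss : ℕ) (p : Pf)
  | dfs (r x1 e1 x2 e2 sq j tag a b q us st CG CI sm S : ℕ) (p : Pf)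
  | mulh (a b : ℕ) (p : Pf)
  | clm (p q : Pf)
  | lft (W q l gi : ℕ) (p : Pf)
  | extn (A se us tag a b q S : ℕ) (p : Pf)
  | syr (x : ℕ) (k0 : Bool) (j g gi rs CG CI sm S : ℕ) (p : Pf)
  | cnt (a sa j sb T2 T3 : ℕ) (p : Pf)
  | cut (i : ℕ)
  | iso (e : Cx) (u : St) (i h iv : ℕ) (Ws : List ℕ) (p : Pf)
  | e8 (x y z : ℕ)
  | r64 (u : ℕ)
  | cl2 (g gi x y : ℕ)
  | mdl (j h se : ℕ)

/-- The checks of a node: as a proof, as a list of cases for an element, as a list of extensions. -/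
structure Ck where
  n : Cx → St → Bool
  d : Cx → (ℕ → St) → ℕ → Bool
  e : Cx → St → ℕ → ℕ → Bool

/-- An ordinary node. -/
def Ck.N (f : Cx → St → Bool) : Ck := ⟨f, fun _ _ _ => false, fun _ _ _ _ => false⟩

/-- The checker. -/
def chk (env : List (Cx × St)) (genv : List Gd) (p : Pf) : Ck :=
  Pf.rec ⟨fun _ _ => false, fun _ _ S => Nat.beq S N0, fun _ _ _ S => Nat.beq S N0⟩
    (fun e _ _ p r => ⟨fun _ _ => false, cD e p.n r.d, fun _ _ _ _ => false⟩)
    (fun e B T _ _ _ p q r => ⟨fun _ _ => false, fun _ _ _ => false, cE e B T p.n q.n r.e⟩)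
    (fun x W => .N (kc x W)) (fun x W g => .N (kb x W g)) (fun sx g fx CG CI st => .N (kn sx g fx CG CI st))
    (fun st p => .N (kin st p)) (.N ksyl) (fun i W => .N (kA i W)) (fun x W => .N (kF x W))
    (fun j W0 l ss W => .N (kS j W0 l ss W)) (fun lp lq CG CI s1 s0 => .N (kT lp lq CG CI s1 s0))
    (fun x _ _ p q => .N (cas x p.n q.n)) (fun y T n _ p => .N (czs y T n p.n)) (fun y W g T _ p => .N (czp y W g T p.n))
    (fun y _ p => .N (anz y p.n)) (fun x W rs _ p => .N (anc x W rs p.n))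
    (fun j W0 xs W sa rs qs ss _ p => .N (ext j W0 xs W sa rs qs ss p.n))
    (fun r x1 e1 x2 e2 sq j tag a b q us st CG CI sm S _ p => .N (dfs r x1 e1 x2 e2 sq j tag a b q us st CG CI sm S p.d))
    (fun a b _ p => .N (mulh a b p.n)) (fun _ _ p q => .N (clm p.n q.n)) (fun W q l gi _ p => .N (lft W q l gi p.n))
    (fun A se us tag a b q S _ p => .N (extn A se us tag a b q S p.e))
    (fun x k0 j g gi rs CG CI sm S _ p => .N (syr x k0 j g gi rs CG CI sm S p.d))
    (fun a sa j sb T2 T3 _ p => .N (cnt a sa j sb T2 T3 p.n)) (fun i => .N (cut env i))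
    (fun e u i h iv Ws _ p => .N (iso genv e u i h iv Ws p.n)) (fun x y z => .N (e8 x y z)) (fun u => .N (r64 u))
    (fun g gi x y => .N (cl2 g gi x y)) (fun j h se => .N (mdl j h se)) p

end

end Cfsg.Lib.D8
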