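import Cfsg.Agent.Lib.D8.Cs

/-! Soundness of the tower checker, part A: tools and contradictions (helper29). -/

set_option autoImplicit false

namespace Cfsg.Lib.D8

open Cfsg.Lib.H33 Cfsg.Lib.Calc Subgroup

universe u

/-- Soundness of an ordinary node. -/
def OKn (k : Cx → St → Bool) : Prop := ∀ c s, k c s = true → Valid.{u} c s

/-- Soundness of a list of cases. -/
def OKd (k : Cx → (ℕ → St) → ℕ → Bool) : Prop := ∀ c mk S, k c mk S = true → ∀ e, bit S e = true → Valid.{u} c (mk e)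

/-- Soundness of a list of extensions. -/
def OKe (k : Cx → St → ℕ → ℕ → Bool) : Prop := ∀ c s A S, k c s A S = true → ∀ e, bit S e = true →
  ∀ (G : Type u) [Group G] [Finite G] (X : Subgroup G) (gs : List G) (w : G), SC c X gs → SS c s gs →
    (∀ x < c.n, look A x < c.n ∧ cg (el gs x) w = el gs (look A x)) → w * w = el gs e → w ∉ gen gs → (c.o c.t = false → w ∈ X) →
    Goal X (el gs c.t) c.tn

theorem hT_ok {l : List ℕ} {k : ℕ → List ℕ → Bool} (h : hT l k = true) : ∃ a m, l = a :: m ∧ k a m = true := by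
  cases l with
  | nil => exact absurd h Bool.false_ne_true
  | cons a m => exact ⟨a, m, rfl, h⟩

theorem nul_ok {α : Type} {l : List α} (h : nul l = true) : l = [] := by
  cases l with
  | nil => rfl
  | cons a m => exact absurd h Bool.false_ne_true

theorem hdK_eq (s : St) (k : List ℕ → List ℕ → Bool) : hdK s k = k s.hd.1 s.hd.2 := by
  unfold hdK St.hd
  cases s.ff <;> rfl

theorem rdN_ok {α : Type} {f : α → ℕ → (ℕ → Bool) → Bool} {Q : α → Prop} (a : ∀ x W k, f x W k = true → Q x ∧ ∃ W, k W = true)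
    {l : List α} {W : ℕ} {k : ℕ → Bool} (e : rdN f l W k = true) : (∀ x ∈ l, Q x) ∧ ∃ W, k W = true := by
  induction l generalizing W with
  | nil => exact ⟨by simp, W, e⟩
  | cons x l ih =>
    obtain ⟨p, W', q⟩ := a x W _ e
    exact ⟨List.forall_mem_cons.2 ⟨p, (ih q).1⟩, (ih q).2⟩

theorem rdA_ok {α : Type} {f : α → ℕ → Bool} {l : List α} {W : ℕ} {k : ℕ → Bool} (e : rdA f l W k = true) :
    (∀ x ∈ l, ∃ i, f x i = true) ∧ ∃ W, k W = true :=
  rdN_ok (fun x W k e => by rw [band_eq_true, forceB_eq, forceB_eq] at e; exact ⟨⟨_, e.1⟩, _, e.2⟩) e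

theorem allS_iff {n : ℕ} {f : ℕ → ℕ → Bool} : allS n f = true ↔ ∀ i < n.log2, f i (2 ^ i) = true := by
  simp only [allS, allLt_iff, forceB_eq]; rfl

theorem bit_one {y x : ℕ} (h : bit (Nat.shiftLeft (nat_lit 1) y) x = true) : x = y := by
  rw [bit_eq] at h
  change (1 <<< y).testBit x = true at h
  rw [Nat.one_shiftLeft, Nat.testBit_two_pow, decide_eq_true_eq] at h
  exact h.symm

theorem bit_xor {S e x : ℕ} (h : bit S x = true) (n : x ≠ e) : bit (Nat.xor S (Nat.shiftLeft (nat_lit 1) e)) x = true := by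
  rw [bit_eq] at h ⊢
  change (S ^^^ 1 <<< e).testBit x = true
  rw [Nat.testBit_xor, Nat.one_shiftLeft, Nat.testBit_two_pow, h, decide_eq_false n.symm]; rfl

variable {G : Type*} [Group G]

theorem cgH_inj (w : G) : Function.Injective (cgH w) := fun _ _ e => cg_inj.1 (by rwa [cgH_apply, cgH_apply] at e)

theorem mem_cg {P : Subgroup G} {x : G} (m : x ∈ P) (w : G) : cg x w ∈ P.map (cgH w) := ⟨x, m, cgH_apply _ _⟩

theorem fix_gen {gs : List G} {x : G} {l : List ℕ} (h : ∀ a ∈ l, cg x (el gs a) = x) {y : G} (m : y ∈ gen (l.map (el gs))) :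
    cg x y = x :=
  mem_cent.1 ((gen_le.2 fun _ m => by obtain ⟨a, m', rfl⟩ := List.mem_map.1 m; exact mem_cent.2 (h a m') : _ ≤ centralizer {x}) m)

theorem cls_le [Finite G] {H Q : Subgroup G} (l : Q ≤ H) {y : G} (c : ∀ q ∈ Q, cg y q = y) {ι : Type} (A : Finset ι) (f : ι → G)
    (i : Set.InjOn f A) (a : ∀ x ∈ A, ∃ p ∈ H, cg y p = f x) : A.card * Nat.card Q ≤ Nat.card H := by
  choose p m e using a
  have : Nat.card (A × Q) ≤ Nat.card H := by
    refine Nat.card_le_card_of_injective (fun z => ⟨z.2 * p z.1 z.1.2, mul_mem (l z.2.2) (m _ _)⟩) ?_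
    rintro ⟨x, q⟩ ⟨x', q'⟩ z
    have z : (q : G) * p x x.2 = q' * p x' x'.2 := congrArg Subtype.val z
    obtain rfl : x = x' := Subtype.ext (i x.2 x'.2 (by rw [← e _ x.2, ← e _ x'.2, ← c q q.2, cg_cg, z, ← cg_cg, c q' q'.2, c q q.2]))
    rw [Subtype.ext (mul_right_cancel z)]
  simpa using this

theorem PN.mul {P : Subgroup G} {t w p : G} (h : PN P t w) (m : p ∈ P) : PN P t (w * p) :=
  ⟨fun x a => by rw [← cg_cg]; exact cg_mem (h.1 x a) m,
    by rw [show w * p * (w * p) = w * w * cg p w * p by simp [cg, mul_assoc]]; exact mul_mem (mul_mem h.2.1 (h.1 p m)) m,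
    fun q a e => h.2.2 (q * p⁻¹) (mul_mem a (inv_mem m)) (by rw [← cg_cg, ← e, cg_cg, mul_inv_cancel_right])⟩

theorem PN.nm {P : Subgroup G} {t w : G} (h : PN P t w) : w ∉ P := fun m => h.2.2 w m rfl

theorem PD.mul {c : Cx} {s : St} {gs : List G} {w p : G} (h : PD c s gs w) (m : p ∈ gen gs) : PD c s gs (w * p) :=
  ⟨fun r a => by rw [← cg_cg]; exact cg_mem (h.1 r a) m, fun a => (h.2 a).mul m⟩

theorem PD.mem {c : Cx} {s : St} {gs : List G} {w : G} (h : PD c s gs w) {r : ℕ} (a : s.pn = true ∨ r ∈ s.pr) :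
    cg (el gs r) w ∈ gen gs := a.elim (fun a => (h.2 a).1 _ (el_mem _ _)) (h.1 r)

theorem SS.nh {c : Cx} {s : St} {gs : List G} (k : SS c s gs) {xs ys pr : List ℕ} {pn : Bool} {w : G} (a : Mq gs w xs ys)
    (b : ∀ r ∈ pr, cg (el gs r) w ∈ gen gs) (d : pn = true → PN (gen gs) (el gs c.t) w) : SS c (s.nh xs ys pn pr) gs :=
  ⟨List.forall_mem_cons.2 ⟨⟨w, a⟩, k.ff⟩, k.pl, k.nl, k.cz, k.cn, k.an, k.syl, w, a, b, d⟩

theorem SS.rh {c : Cx} {s : St} {gs : List G} (k : SS c s gs) {xs ys : List ℕ} {w : G} (a : Mq gs w xs ys) (b : PD c s gs w) :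
    SS c (s.rh xs ys) gs :=
  ⟨List.forall_mem_cons.2 ⟨⟨w, a⟩, fun p m => k.ff p (List.mem_of_mem_tail m)⟩, k.pl, k.nl, k.cz, k.cn, k.an, k.syl, w, a, b⟩

namespace SC

variable {c : Cx} {X : Subgroup G} {gs : List G} (h : SC c X gs)
include h

theorem com {x y : ℕ} : com c x y = true ↔ cg (el gs x) (el gs y) = el gs x := h.mu.cj
theorem sq {x : ℕ} : sq1 c x = true ↔ el gs x * el gs x = 1 := h.mu.one
theorem o {x : ℕ} : c.o x = true ↔ el gs x ∉ X := by rw [h.chi, Cx.o, Bool.not_eq_false]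
theorem no {x : ℕ} : bn (c.o x) = true ↔ el gs x ∈ X := by rw [bn_iff, h.o, not_not]

theorem pgl (l : List ℕ) : IsPGroup 2 (gen (l.map (el gs))) := h.mu.pgroup.to_le (MU.gle l)

theorem big {x : G} (a : IsConj (el gs c.t) x) {Q : Subgroup G} (p : IsPGroup 2 Q) (b : ∀ y ∈ Q, cg x y = x) :
    Nat.card Q ≤ c.tn := by
  obtain ⟨w, rfl⟩ := exists_cg a
  rw [← card_map_of_injective (cgH_inj w⁻¹)]
  refine h.fm.big _ (p.map _) ?_
  rintro _ ⟨y, m, rfl⟩
  have := congrArg (cg · w⁻¹) (b y m)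
  simpa [cgH_apply, cg, mul_assoc] using this

theorem wd1 {s : St} (k : SS c s gs) {W x : ℕ} {f : ℕ → Bool} (e : (wd c.m c.n s.ff W [x] fun l => hK l f) = true) :
    ∃ w y, cg (el gs x) w = el gs y ∧ f y = true := by
  obtain ⟨w, _, a, e⟩ := h.mu.wd k.ff e
  obtain ⟨y, _, rfl, e'⟩ := hK_ok e
  cases a with | cons a _ => exact ⟨w, y, a, e'⟩

theorem half [Finite G] (a : el gs c.t ∉ X) : 2 * Nat.card (gen gs ⊓ X : Subgroup G) = c.n := by
  have i := Lc.idx h.gl a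
  have := h.gl.nX
  have e : X.relIndex (gen gs) = 2 := by
    have d : X.relIndex (gen gs) ∣ 2 := i ▸ relIndex_dvd_index_of_normal X (gen gs)
    rcases (Nat.dvd_prime Nat.prime_two).1 d with d | d
    · exact absurd (relIndex_eq_one.1 d (el_mem _ _)) a
    · exact d
  rw [← h.mu.card, ← e, inf_comm, ← inf_relIndex_right, mul_comm, ← relIndex_bot_left, ← relIndex_bot_left,
    relIndex_mul_relIndex _ _ _ bot_le inf_le_right]

end SC

theorem kc_ok (x W : ℕ) : OKn.{u} (kc x W) := fun c s e G _ _ X gs h k => by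
  obtain ⟨w, y, a, e⟩ := h.wd1 k e
  simp only [bor_eq_true, band_eq_true, bn_iff] at e
  rcases e with e | e | e
  · exact absurd a (h.dX e w)
  · rw [h.mu.z.1 e.2, cg_eq_one] at a; exact absurd (h.mu.z.2 a) e.1
  · exact absurd ((h.pos k e.1).trans (a ▸ isConj_cg _ w)) (h.neg k e.2)

theorem kb_ok (x W g : ℕ) : OKn.{u} (kb x W g) := fun c s e G _ _ X gs h k => by
  obtain ⟨w, y, a, e⟩ := h.wd1 k e
  obtain ⟨p, e⟩ := band_eq_true.1 e
  obtain ⟨g, e⟩ := uk_ok e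
  simp only [band_eq_true, allG_iff, blt_iff, h.com] at e
  have := h.big ((h.pos k p).trans (a ▸ isConj_cg _ w).symm) (h.pgl g) fun y => fix_gen e.2.1
  have := h.mu.ech_card e.1
  omega

theorem kn_ok (sx g : ℕ) (fx : Bool) (CG CI st : ℕ) : OKn.{u} (kn sx g fx CG CI st) := fun c s e G _ _ X gs h k => by
  rw [kn, hdK_eq, forceB_eq, forceB_eq] at e
  obtain ⟨g, e⟩ := uk_ok e
  simp only [band_eq_true, allG_iff, bor_eq_true, h.com, memL_iff] at e
  obtain ⟨e1, e2, e3, e⟩ := e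
  obtain ⟨w, a, b⟩ := k.pd
  have M := h.mu
  obtain ⟨S, e, q⟩ := M.cov (H := gen gs ⊓ if fx = true then X else ⊤) (fun g o => ⟨el_mem _ _, by
    split_ifs with i
    · exact h.no.1 ((bor_eq_true.1 o).resolve_left (by simp [i, bn]))
    · trivial⟩) e
  have key : (fx = true → ∀ a ∈ g, el gs a ∈ X) →
      cntB c.n (bit S) * p2 g ≤ Nat.card (gen gs ⊓ (if fx = true then X else ⊤) : Subgroup G) := fun o => by
    refine le_trans (Nat.mul_le_mul_left _ ((M.ech_card e1).trans (card_map_of_injective (cgH_inj w)).ge)) ?_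
    rw [cntB_eq]
    refine cls_le (y := el gs (hm c.m s.hd.2 sx)) (map_le_iff_le_comap.2 (gen_le.2 fun x m => ?_)) ?_ _ (el gs)
      (fun x m y n => M.inj (by simpa using (Finset.mem_filter.1 m).1) (by simpa using (Finset.mem_filter.1 n).1)) fun x m => ?_
    · obtain ⟨r, m', rfl⟩ := List.mem_map.1 m
      rw [mem_comap, cgH_apply]
      refine ⟨b.mem (e3.imp id fun e => e r m'), ?_⟩
      split_ifs with i
      exacts [(h.cX _ _).2 (o i r m'), trivial]
    · rintro _ ⟨y, m, rfl⟩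
      rw [← M.hmq a, cgH_apply, ← cg_cg', fix_gen e2 m]
    · obtain ⟨p, m, y, r, e⟩ := q x (Finset.mem_filter.1 m).2
      exact ⟨p⁻¹, inv_mem m, cg_symm (bit_one r ▸ e)⟩
  rcases cB_iff.1 e with ⟨i, e⟩ | ⟨i, e⟩
  · simp only [band_eq_true, allG_iff, h.no, h.o, blt_iff] at e
    have := key fun _ => e.2.1
    rw [if_pos i] at this
    have := h.half e.1
    have : c.n < 2 * (cntB c.n (bit S) * p2 g) := e.2.2
    omega
  · have := key (by simp [i])
    rw [if_neg (by simp [i]), inf_top_eq, M.card] at this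
    exact absurd (blt_iff.1 e) (not_lt.2 this)

theorem kin_ok (st p : ℕ) : OKn.{u} (kin st p) := fun c s e G _ _ X gs h k => by
  simp only [kin, hdK_eq, band_eq_true, h.mu.eq, h.mu.cj] at e
  obtain ⟨w, a, b⟩ := k.pd
  exact absurd (by rw [e.2.2, ← h.mu.hmq a, e.2.1]) ((b.2 e.1).2.2 _ (el_mem gs p))

theorem ksyl_ok : OKn.{u} ksyl := fun c s e G _ _ X gs h k => by
  obtain ⟨e1, e2⟩ := band_eq_true.1 e
  obtain ⟨w, -, b⟩ := k.pd
  have b := b.2 e2
  obtain ⟨D, p⟩ := h.mu.pg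
  obtain ⟨x, -, e⟩ := p.ex b.2.1
  have : ∀ l : List G, (∀ x ∈ l, x ∈ gen gs) → ∃ cs, List.Forall₂ (fun a c => cg a w = el gs c) l cs := fun l m => by
    induction l with
    | nil => exact ⟨[], .nil⟩
    | cons a l ih =>
      obtain ⟨cs, r⟩ := ih fun x n => m x (List.mem_cons_of_mem _ n)
      obtain ⟨y, -, e⟩ := p.ex (b.1 a (m a List.mem_cons_self))
      exact ⟨y :: cs, .cons e r⟩
  obtain ⟨cs, r⟩ := this gs fun _ => mem_gen
  refine absurd ?_ (k.syl e1).mx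
  rw [p.card, ← (p.cons b.nm e r).card]
  exact card_dvd_of_le le_top

theorem SC.inV {c : Cx} {X : Subgroup G} {gs : List G} (h : SC c X gs) {v y : ℕ} :
    inV c v y = true ↔ InV (el gs c.z) (el gs v) (el gs y) := by
  simp only [D8.inV, bor_eq_true, h.mu.eq, h.mu.mul, InV]

theorem kA1_ok {c : Cx} {s : St} {X : Subgroup G} {gs : List G} (h : SC c X gs) (k : SS c s gs) {W F v F' v' : ℕ}
    (ce : CenL [el gs c.t, el gs F, el gs c.z, el gs v]) (e : kA1 W F v F' v' c s = true) : ∃ w, cg (el gs c.t) w = el gs c.t ∧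
      (∀ y ∈ [el gs F, el gs c.z, el gs v],
        cg y w ∈ gen (tg c.tn (el gs c.t) (el gs c.f) (el gs c.z) (el gs c.v1) (el gs c.v2) (el gs c.d))) ∧
      ¬ ((cg (el gs F) w = el gs F ∧ InV (el gs c.z) (el gs v) (cg (el gs c.z) w) ∧ InV (el gs c.z) (el gs v) (cg (el gs v) w)) ∨
      (c.tn = 64 ∧ cg (el gs F) w = el gs F' ∧ InV (el gs c.z) (el gs v') (cg (el gs c.z) w) ∧
        InV (el gs c.z) (el gs v') (cg (el gs v) w))) := by
  obtain ⟨w, _, a, e⟩ := h.mu.wd k.ff e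
  obtain ⟨_, _, rfl, e1⟩ := hT_ok e
  obtain ⟨_, _, rfl, e2⟩ := hT_ok e1
  obtain ⟨_, _, rfl, e3⟩ := hT_ok e2
  obtain ⟨_, _, rfl, e4⟩ := hK_ok e3
  simp only [band_eq_true, bn_iff, h.inV, h.mu.eq, beq_iff] at e4
  simp only [Mq, List.forall₂_cons] at a
  obtain ⟨a1, a2, a3, a4, -⟩ := a
  rw [e4.1] at a1
  refine ⟨w, a1, fun y m => h.inT ?_ ?_, by rw [a2, a3, a4, not_or]; exact e4.2⟩
  · simp only [List.mem_cons, List.not_mem_nil, or_false] at m
    rcases m with rfl | rfl | rfl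
    exacts [a2 ▸ el_mem _ _, a3 ▸ el_mem _ _, a4 ▸ el_mem _ _]
  · rw [← a1, ← cg_cg', (ce.1 y (List.mem_cons_of_mem _ m)).2 _ List.mem_cons_self]

theorem kA_ok (i : Bool) (W : ℕ) : OKn.{u} (kA i W) := fun c s e G _ _ X gs h k => by
  rw [kA, forceB_eq] at e
  rcases cB_iff.1 e with ⟨-, e⟩ | ⟨-, e⟩
  · obtain ⟨w, a, b, n⟩ := kA1_ok h k (by rw [h.mu.mul]; exact h.fm.cen2) e
    rw [h.mu.mul] at b n
    exact absurd (h.fm.rg2 w a (b _ (by simp)) (b _ (by simp)) (b _ (by simp))) n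
  · obtain ⟨w, a, b, n⟩ := kA1_ok h k h.fm.cen1 e
    rw [h.mu.mul] at n
    exact absurd (h.fm.rg1 w a (b _ (by simp)) (b _ (by simp)) (b _ (by simp))) n

theorem kF_ok (x W : ℕ) : OKn.{u} (kF x W) := fun c s e G _ _ X gs h k => by
  obtain ⟨w, _, a, e⟩ := h.mu.wd k.ff e
  obtain ⟨_, _, rfl, e1⟩ := hT_ok e
  obtain ⟨y, _, rfl, e2⟩ := hK_ok e1
  simp only [band_eq_true, bn_iff, h.com, h.mu.eq, allLt_iff, h.mu.mul, h.mu.hm] at e2
  simp only [Mq, List.forall₂_cons] at a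
  obtain ⟨a1, a2, -⟩ := a
  rw [e2.1] at a1
  obtain ⟨i, l, e⟩ := h.fm.fus w a1 _ (h.inT (el_mem _ _) e2.2.1)
    (h.inT (a2 ▸ el_mem _ _) (by rw [← a1, ← cg_cg', e2.2.1]))
  exact absurd (a2 ▸ e) (e2.2.2 i l)

theorem MU.nch {gs : List G} {μ : ℕ → ℕ → ℕ} {N : ℕ} (h : MU gs μ N) {a l : List ℕ} {W : ℕ} (e : nch μ a l W = true) :
    NCh (a.map (el gs)) (l.map (el gs)) := by
  induction l generalizing W with
  | nil => trivial
  | cons x l ih =>
    change mapK (fun y => y) (l ++ a) (fun r => rdA (fun y e => cjk μ y x (H33.hm μ r e)) r W (D8.nch μ a l)) = true at e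
    rw [mapK_eq, List.map_id'] at e
    obtain ⟨p, W', q⟩ := rdA_ok e
    refine ⟨fun y m => ?_, ih q⟩
    rw [← List.map_append] at m ⊢
    obtain ⟨y, m', rfl⟩ := List.mem_map.1 m
    obtain ⟨i, e⟩ := p y m'
    rw [h.cj.1 e]; exact h.hm_mem _ _

theorem kS_ok (j W0 l ss W : ℕ) : OKn.{u} (kS j W0 l ss W) := fun c s e G _ _ X gs h k => by
  have M := h.mu
  obtain ⟨a, ce, e⟩ := h.cnW k e
  obtain ⟨l, e⟩ := uk_ok e
  obtain ⟨e1, e⟩ := band_eq_true.1 e
  obtain ⟨w, tp, q, e⟩ := M.wd k.ff e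
  simp only [band_eq_true, beqL_iff, mapK_eq, List.map_id', allLt_iff, forceB_eq, bn_iff, all2_iff, M.cj, p2_eq] at e
  have q1 : ∀ y ∈ a, cg (el gs y) w = el gs y := by simpa [e.1] using List.forall₂_drop l.length q
  have q2 : Mq gs w l (tp.take l.length) := by simpa [Mq] using List.forall₂_take l.length q
  obtain ⟨i, li, r⟩ := stab ce M.pgroup (fun y m => MU.gle a (mem_gen m)) (g := w) fun y m => by
    obtain ⟨y, m', rfl⟩ := List.mem_map.1 m
    exact q1 y m'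
  have r := r _ (M.nch e1) fun x m => ⟨MU.gle l (mem_gen m), MU.gle (tp.take l.length) (mem_gen (q2.map ▸ List.mem_map_of_mem m))⟩
  refine absurd ?_ (e.2 i (by simpa using li))
  rw [M.hm]
  refine List.Forall₂.imp (fun x y p => ?_) ((List.forall₂_and_left (p := fun x => x ∈ l) _ _).2 ⟨fun _ m => m, q2⟩)
  rw [← r _ (List.mem_map_of_mem p.1), p.2]

end Cfsg.Lib.D8
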