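import Cfsg.Agent.Lib.D8.CkA

/-! Soundness of the tower checker, part B: counting, new facts and case distinctions (helper29). -/

set_option autoImplicit false

namespace Cfsg.Lib.D8

open Cfsg.Lib.H33 Cfsg.Lib.Calc Subgroup

universe u

theorem kT_ok (lp lq CG CI s1 s0 : ℕ) : OKn.{u} (kT lp lq CG CI s1 s0) := fun c s e G _ _ X gs h k => by
  have M := h.mu
  simp only [kT, band_eq_true, h.no, ble_iff] at e
  obtain ⟨tX, n2, e⟩ := e
  obtain ⟨lp, e⟩ := uk_ok e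
  obtain ⟨lq, e⟩ := uk_ok e
  simp only [band_eq_true, allG_iff] at e
  obtain ⟨e1, e0, e⟩ := e
  obtain ⟨S1, e, q1⟩ := M.cov' (fun x => IsConj (el gs c.t) (el gs x)) (fun g x y _ a b => b.trans (a ▸ isConj_cg _ _)) e
    fun x b => by obtain ⟨a, m, rfl⟩ := bit_bs b; rw [M.md]; exact h.pos k (e1 a m)
  obtain ⟨S0, e, q0⟩ := M.cov' (fun x => ¬ IsConj (el gs c.t) (el gs x))
    (fun g x y _ a b n => b (n.trans (a ▸ isConj_cg _ _).symm)) e
    fun x b => by obtain ⟨a, m, rfl⟩ := bit_bs b; rw [M.md]; exact h.neg k (e0 a m)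
  simp only [band_eq_true, allBig_iff, forceB_eq, bor_eq_true, bn_iff, h.sq, beq_iff, cntB_eq] at e
  have n2 : 2 ^ 1 ≤ c.n := n2
  have cd := M.card_drop n2
  have := tcI h.gl tX h.fm M.pgroup (drop_le gs 1) (by rw [M.card, ← cd, pow_one])
  have ev : c.n % 2 = 0 := by omega
  rw [M.card, show {v | IsConj (el gs c.t) v ∧ v ∈ gen gs ∧ v ∉ gen (gs.drop 1)} = (fun i => el gs (2 * i + 1)) ''
    ((Finset.range (c.n / 2)).filter fun i => bit S1 (2 * i + 1) = true : Finset ℕ) from ?_, Set.InjOn.ncard_image,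
    Set.ncard_coe_finset] at this
  · exact absurd (Nat.mod_eq_zero_of_dvd this) e.2
  · intro i a j b e
    have a := Finset.mem_range.1 (Finset.mem_filter.1 a).1
    have b := Finset.mem_range.1 (Finset.mem_filter.1 b).1
    have := M.inj (by omega) (by omega) e
    omega
  · ext v
    simp only [Set.mem_setOf_eq, Set.mem_image, Finset.coe_filter, Finset.mem_range]
    constructor
    · rintro ⟨a, m, n⟩
      obtain ⟨x, l, rfl⟩ := M.ex m
      rw [M.drop n2] at n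
      obtain ⟨i, rfl⟩ : ∃ i, x = 2 * i + 1 := ⟨x / 2, by omega⟩
      refine ⟨i, ⟨by omega, ?_⟩, rfl⟩
      rcases e.1 i (show i < c.n / 2 by omega) with b | b | b
      · exact b
      · exact absurd a (q0 _ b)
      · obtain ⟨w, r⟩ := exists_cg a
        exact absurd (show el gs (2 * i + 1) * el gs (2 * i + 1) = 1 by rw [← r, ← cg_mul, h.gl.tt, cg_eq_one]) b
    · rintro ⟨i, ⟨-, b⟩, rfl⟩
      exact ⟨q1 _ b, el_mem _ _, by rw [M.drop n2]; omega⟩

variable {k k' : Cx → St → Bool}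

theorem cas_ok (x : ℕ) (a : OKn.{u} k) (b : OKn.{u} k') : OKn.{u} (cas x k k') := fun c s e G _ _ X gs h r => by
  obtain ⟨e1, e2⟩ := band_eq_true.1 e
  by_cases i : IsConj (el gs c.t) (el gs x)
  · exact a _ _ e1 G X gs h ⟨r.ff, List.forall_mem_cons.2 ⟨i, r.pl⟩, r.nl, r.cz, r.cn, r.an, r.syl, r.pd⟩
  · exact b _ _ e2 G X gs h ⟨r.ff, r.pl, List.forall_mem_cons.2 ⟨i, r.nl⟩, r.cz, r.cn, r.an, r.syl, r.pd⟩

theorem czs_ok (y T n : ℕ) (a : OKn.{u} k) : OKn.{u} (czs y T n k) := fun c s e G _ _ X gs h r => by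
  obtain ⟨e1, e2⟩ := band_eq_true.1 e
  refine a _ _ e2 G X gs h ⟨r.ff, r.pl, r.nl, List.forall_mem_cons.2 ⟨fun g m f => ?_, r.cz⟩, r.cn, r.an, r.syl, r.pd⟩
  obtain ⟨x, l, rfl⟩ := h.mu.ex m
  have : ∀ j ≤ n, ∀ B, Nat.rec (motive := fun _ => ℕ → Bool) (fun B => allBig c.n fun g => bor (bit B g) (bn (com c y g)))
      (fun i ih B => forceB (Nat.lor B (Nat.shiftLeft (nat_lit 1) (look T i))) ih) j B = true →
      (∀ x, bit B x = true → ∃ i < n, x = look T i) → ∃ i < n, x = look T i := by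
    intro j
    induction j with
    | zero => exact fun _ B e q => q x ((bor_eq_true.1 (allBig_iff.1 e x l)).resolve_right fun n => bn_iff.1 n (h.com.2 f))
    | succ j ih =>
      refine fun p B e q => ih (by omega) _ ((forceB_eq _ _).symm.trans e) fun x b => ?_
      rcases bit_lor b with b | b
      exacts [q x b, ⟨j, p, b⟩]
  obtain ⟨i, p, e⟩ := this n le_rfl _ e1 fun x b => by rw [bit_eq] at b; simp at b
  exact ⟨i, p, congrArg _ e⟩

theorem czp_ok (y W g T : ℕ) (a : OKn.{u} k) : OKn.{u} (czp y W g T k) := fun c s e G _ _ X gs h r => by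
  have M := h.mu
  simp only [czp, band_eq_true] at e
  obtain ⟨e1, e2, e3, e4⟩ := e
  refine a _ _ e4 G X gs h ⟨r.ff, r.pl, r.nl, List.forall_mem_cons.2 ⟨fun p m f => ?_, r.cz⟩, r.cn, r.an, r.syl, r.pd⟩
  obtain ⟨w, x, q, e1⟩ := h.wd1 r e1
  obtain ⟨g, e2⟩ := uk_ok e2
  simp only [band_eq_true, allG_iff, h.com, beq_iff, allS_iff] at e2
  obtain ⟨b1, b2, b3, b4⟩ := e2
  have tb := fun x => M.tab e3 (MonoidHom.id G) (hs := g.map (el gs)) (x := x) fun i l => by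
    rw [b4 i (by rw [b3, p2_eq] at l ⊢; rw [Nat.log2_two_pow]; exact (Nat.pow_lt_pow_iff_right (by decide)).1 l), M.hm]; rfl
  have cd := h.big ((h.pos r e1).trans (q ▸ isConj_cg _ w).symm) (M.pgroup.to_le (inf_le_left (b := centralizer {el gs y})))
    fun y m => mem_cent.1 m.2
  have sj : Function.Surjective fun i : Fin c.tn => (⟨el (g.map (el gs)) i, MU.gle g (el_mem _ _),
      mem_cent.2 (fix_gen b2 (el_mem _ _))⟩ : (gen gs ⊓ centralizer {el gs y} : Subgroup G)) := by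
    refine (Function.Injective.bijective_of_nat_card_le (fun i j e => ?_) (by simpa using cd)).2
    have := (M.ech b1).inj (congrArg Subtype.val e)
    rw [List.length_map, ← p2_eq, ← b3, Nat.mod_eq_of_lt i.2, Nat.mod_eq_of_lt j.2] at this
    exact Fin.ext this
  obtain ⟨i, e⟩ := sj ⟨p, m, mem_cent.2 f⟩
  exact ⟨i, i.2, (congrArg Subtype.val e).symm.trans (tb i i.2).2⟩

theorem anz_ok (y : ℕ) (a : OKn.{u} k) : OKn.{u} (anz y k) := fun c s e G _ _ X gs h r => by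
  simp only [anz, band_eq_true, allS_iff, h.com] at e
  exact a _ _ e.2.2 G X gs h ⟨r.ff, r.pl, r.nl, r.cz, r.cn, List.forall_mem_cons.2 ⟨anZ (r.syl e.1) fun p m => mem_cent.1
    ((gen_le.2 (h.mu.gens fun i l => mem_cent.2 (e.2.1 i l)) : _ ≤ centralizer {el gs y}) m), r.an⟩, r.syl, r.pd⟩

theorem anc_ok (x W rs : ℕ) (a : OKn.{u} k) : OKn.{u} (anc x W rs k) := fun c s e G _ _ X gs h r => by
  obtain ⟨w, y, q, e⟩ := h.wd1 r e
  obtain ⟨e1, e⟩ := band_eq_true.1 e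
  obtain ⟨rs, e⟩ := uk_ok e
  simp only [band_eq_true, allG_iff, h.com] at e
  have an : An (gen gs) (el gs y) := by
    rcases bor_eq_true.1 e1 with e1 | e1
    · rw [h.mu.eq.1 e1]
      intro Q p b
      obtain ⟨v, d, f⟩ := h.fm.into Q p b
      exact ⟨v, d, fun x m => h.tle (f x m)⟩
    · exact r.an y (memL_iff.1 e1)
  obtain ⟨v, d, f⟩ := an _ ((h.pgl rs).map (cgH w)) (by
    rintro _ ⟨z, m, rfl⟩
    rw [← q, cgH_apply, ← cg_cg', fix_gen e.1 m])
  exact a _ _ e.2 G X gs h (r.nh (w := w * v) (.cons (by rw [← cg_cg, q, d]) .nil)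
    (fun z m => by rw [← cg_cg]; exact f _ (mem_cg (mem_gen (List.mem_map_of_mem m)) w)) nofun)

theorem ext_ok (j W0 xs W sa rs qs ss : ℕ) (a : OKn.{u} k) : OKn.{u} (ext j W0 xs W sa rs qs ss k) :=
  fun c s e G _ _ X gs h r => by
  have M := h.mu
  obtain ⟨b, ce, e⟩ := h.cnW r e
  obtain ⟨xs, e⟩ := uk_ok e
  obtain ⟨w, ys, q, e⟩ := M.wd r.ff e
  obtain ⟨e1, e⟩ := band_eq_true.1 e
  obtain ⟨rs, e⟩ := uk_ok e
  obtain ⟨qs, e⟩ := uk_ok e
  simp only [band_eq_true, beq_iff, p2_eq] at e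
  obtain ⟨e2, e3, e⟩ := e
  have e3 := (rdN_ok (fun p W k e => rdA_ok e) e3).1
  obtain ⟨v, d, f⟩ := extL (ys := ys.map (el gs)) (rs := (rs.map (el gs)).map (cg · w)) ce (fun y m => by
    obtain ⟨y, m', rfl⟩ := List.mem_map.1 m
    obtain ⟨i, e⟩ := (rdA_ok e1).1 y m'
    rw [M.eq.1 e]; exact M.hm_mem _ _) M.pgroup (M.pgroup.map (cgH w)) (fun y m => ⟨MU.gle ys (mem_gen m), by
      obtain ⟨x, m', rfl⟩ := List.mem_map.1 (q.map ▸ m)
      exact mem_cg (MU.gle xs (mem_gen m')) w⟩) (fun z m => by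
    obtain ⟨z, m', rfl⟩ := List.mem_map.1 m
    obtain ⟨z, m'', rfl⟩ := List.mem_map.1 m'
    obtain ⟨i, li, rfl⟩ := List.getElem_of_mem m''
    have lj : i < qs.length := Nat.pow_right_injective le_rfl e2 ▸ li
    refine ⟨mem_cg (el_mem _ _) w, el gs qs[i], el_mem _ _, fun y n => ?_⟩
    obtain ⟨y, n', rfl⟩ := List.mem_map.1 n
    obtain ⟨j, l, rfl⟩ := List.getElem_of_mem n'
    have l' : j < xs.length := q.length_eq ▸ l
    obtain ⟨t, e⟩ := e3 (rs[i], qs[i]) (List.mem_iff_getElem.2 ⟨i, by simp [li, lj], by simp⟩) (xs[j], ys[j])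
      (List.mem_iff_getElem.2 ⟨j, by simp [l, l'], by simp⟩)
    simp only [band_eq_true, M.cj] at e
    rw [e.2, ← (List.forall₂_iff_get.1 q).2 j l' l |>.trans (congrArg _ (List.get_eq_getElem)), List.get_eq_getElem,
      ← cg_cg', e.1, M.hmq q]
    exact ⟨rfl, M.hm_mem _ _⟩)
  exact a _ _ e G X gs h (r.nh (q.fix fun y m => d _ (List.mem_map_of_mem m))
    (fun z m => by rw [← cg_cg]; exact f _ (List.mem_map_of_mem (List.mem_map_of_mem m))) nofun)

theorem mulh_ok (i j : ℕ) (a : OKn.{u} k) : OKn.{u} (mulh i j k) := fun c s e G _ _ X gs h r => by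
  rw [mulh, hdK_eq, forceB_eq, forceB_eq] at e
  obtain ⟨w, q, b⟩ := r.pd
  exact a _ _ e G X gs h (r.rh (.cons (by rw [h.mu.mul, h.mu.mul, cg_mul, h.mu.hmq q, h.mu.hmq q]) q) b)

theorem clm_ok (a : OKn.{u} k) (b : OKn.{u} k') : OKn.{u} (clm k k') := fun c s e G _ _ X gs h r => by
  obtain ⟨e1, e2⟩ := band_eq_true.1 e
  by_cases i : Sy ⊤ (gen gs)
  · exact a _ _ e1 G X gs h ⟨r.ff, r.pl, r.nl, r.cz, r.cn, r.an, fun _ => i, r.pd⟩
  · obtain ⟨w, p⟩ := climbT h.mu.pgroup i fun Q p l x m e => h.tle (h.fm.mx Q p (h.tle.trans l) x m e)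
    exact b _ _ e2 G X gs h (r.nh .nil nofun fun _ => p)

section
variable {G : Type*} [Group G] {c : Cx} {X : Subgroup G} {gs : List G}

theorem SC.ordf (h : SC c X gs) {j x : ℕ} :
    ordf c j x = true ↔ el gs x ^ 2 ^ j ≠ 1 ∧ el gs x ^ 2 ^ j * el gs x ^ 2 ^ j = 1 := by
  induction j generalizing x with
  | zero => exact band_eq_true.trans (by simp only [bn_iff, h.mu.z, h.sq, pow_zero, pow_one, ne_eq])
  | succ j ih =>
    change forceB (c.m x x) (D8.ordf c j) = true ↔ _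
    rw [forceB_eq, ih, h.mu.mul, ← pow_two (el gs x), ← pow_mul, ← pow_succ']

theorem SC.sqK (h : SC c X gs) {w : G} {xs ys : List ℕ} (hw : Mq gs w xs ys) {r sq j x : ℕ} {k : (ℕ → Bool) → Bool}
    (e : sqK c xs ys r sq j k = true) (ei : cg (el gs r) w = el gs x) : ∃ ψ : ℕ → Bool, ψ x = true ∧ k ψ = true := by
  have M := h.mu
  rcases cB_iff.1 e with ⟨-, e1⟩ | ⟨-, e1⟩
  · obtain ⟨o, e1⟩ := band_eq_true.1 e1
    refine ⟨D8.ordf c j, ?_, e1⟩
    rw [h.ordf] at o ⊢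
    rwa [← ei, ← cg_pow, ← cg_mul, ne_eq, cg_eq_one, cg_eq_one]
  · rw [band_eq_true, forceB_eq] at e1
    refine ⟨fun x => Nat.beq (c.m x x) (hm c.m ys sq), ?_, e1.2⟩
    rw [M.beq (M.lt _ _) (M.hm_lt _ _), M.mul, ← ei, ← cg_mul, ← M.mul, ← beq_iff.1 e1.1, M.hmq hw]

theorem MU.gk {μ : ℕ → ℕ → ℕ} {N : ℕ} (h : MU gs μ N) {k : List ℕ → Bool} (e : gk N k = true) :
    ∃ l, l.map (el gs) = gs ∧ k l = true := by
  have : ∀ n ≤ gs.length, ∀ acc : List ℕ, acc.map (el gs) = gs.drop n → Nat.rec (motive := fun _ => List ℕ → Bool) k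
      (fun i ih acc => forceB (Nat.pow (nat_lit 2) i) fun a => ih (a :: acc)) n acc = true →
      ∃ l, l.map (el gs) = gs ∧ k l = true := by
    intro n
    induction n with
    | zero => exact fun _ acc p e => ⟨acc, p, e⟩
    | succ n ih =>
      refine fun l acc p e => ih (by omega) _ ?_ ((forceB_eq _ _).symm.trans e)
      rw [List.map_cons, p, List.drop_eq_getElem_cons l]
      exact congrArg (· :: _) (el_pow_get gs n l)
  exact this _ h.lg.le [] (by simp [h.lg]) e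

end

theorem dfs_ok (r x1 e1 x2 e2 sq j tag a b q us st CG CI sm S : ℕ) {k : Cx → (ℕ → St) → ℕ → Bool} (hk : OKd.{u} k) :
    OKn.{u} (dfs r x1 e1 x2 e2 sq j tag a b q us st CG CI sm S k) := fun c s e G _ _ X gs h p => by
  have M := h.mu
  obtain ⟨w, hw, pd⟩ := p.pd
  rw [dfs, hdK_eq, band_eq_true, bor_eq_true, memL_iff] at e
  obtain ⟨y1, u1, q1, e1⟩ := M.relK hw e.2
  obtain ⟨n, φ, e1, i, li, lt, ei⟩ := h.spec p e1 (pd.mem e.1) q1
  obtain ⟨y2, u2, q2, e1⟩ := M.relK hw e1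
  obtain ⟨ψ, hψ, e1⟩ := h.sqK hw e1 ei
  obtain ⟨us, e1⟩ := uk_ok e1
  simp only [band_eq_true] at e1
  obtain ⟨e2, e3, e4⟩ := e1
  have hu : allG us (com c (φ i)) = true := by
    simp only [bor_eq_true, band_eq_true, allG_iff, forceB_eq, h.com, M.eq, bn_iff, beq_iff] at e2 ⊢
    rcases e2 with e2 | ⟨pn, d, f, t, e2⟩
    · simp [nul_ok e2]
    intro g m
    have nm := mem_norm_of_cg (pd.2 pn).1
    have : cg (el gs r) (cg (el gs g) w⁻¹) = el gs r := by
      refine mem_cent.1 ((gen_le.2 fun x m => mem_cent.2 ?_ : _ ≤ centralizer {el gs r})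
        (h.inT (cg_mem_norm (el_mem _ _) (inv_mem nm)) ?_))
      · unfold tg at m
        simp only [List.forall_mem_cons] at f
        split_ifs at m with i <;> simp only [List.mem_cons, List.not_mem_nil, or_false] at m
        · rcases m with rfl | rfl | rfl | rfl | rfl | rfl
          exacts [d.resolve_left fun n => n i, f.1, f.2.1, f.2.2.1, f.2.2.2.1, f.2.2.2.2.1]
        · rcases m with rfl | rfl | rfl | rfl | rfl
          exacts [f.1, f.2.1, f.2.2.1, f.2.2.2.1, f.2.2.2.2.1]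
      · rw [← t, ← cg_symm (M.hmq hw st), ← cg_cg', e2 g m]
    rw [← ei, ← cg_inj (g := w⁻¹), cg_cg', cg_symm rfl, this]
  obtain ⟨S', e3, cv⟩ := M.cov (H := gen gs ⊓ centralizer {x | x ∈ s.hd.2.map (el gs)}) (fun g o => ⟨el_mem _ _, fun x m => by
    obtain ⟨y, m', rfl⟩ := List.mem_map.1 m
    exact cg_eq_iff.1 (h.com.1 (allG_iff.1 o y m'))⟩) e3
  have e3 := allBig_iff.1 e3 i li
  simp only [forceB_eq, bor_eq_true, bn_iff, hψ, hu, not_true, false_or, all2_iff, M.cj] at e3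
  obtain ⟨v, m, y, by', ey⟩ := cv _ ((e3.resolve_right fun n => n.elim (fun n => h.dX n w ei) fun n => n (ei ▸ q2)))
  exact hk _ _ _ e4 y by' G X gs h (p.rh (.cons (by rw [← cg_cg, ei, ey]) (hw.fix fun y n =>
    cg_eq_iff.2 (m.2 _ (List.mem_map_of_mem n)))) (pd.mul m.1))

theorem lft_ok (W q l gi : ℕ) (a : OKn.{u} k) : OKn.{u} (lft W q l gi k) := fun c s e G _ _ X gs h r => by
  have M := h.mu
  obtain ⟨gl, eg, e⟩ := M.gk e
  obtain ⟨g, ys, p, e⟩ := M.wd r.ff e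
  simp only [band_eq_true, all2_iff, M.cj] at e
  obtain ⟨e1, e2, e⟩ := e
  have ac : ∀ x, cg (el gs x) g = el gs (hm c.m ys x) := fun x => by rw [← M.hmq p, M.hm, eg]
  obtain ⟨w, b, d⟩ := lift (gs := gs) (g := g) (q := el gs q) h.fm.cen1 (by simp [el_mem]) M.pgroup
    (M.gens fun i _ => ac _ ▸ el_mem _ _) (el_mem _ _) fun x m => by
      rw [← eg] at m
      obtain ⟨x, m', rfl⟩ := List.mem_map.1 m
      obtain ⟨i, li, rfl⟩ := List.getElem_of_mem m'
      have lj : i < ys.length := p.length_eq ▸ li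
      have a1 := (List.forall₂_iff_get.1 p).2 i li lj
      have a2 := (List.forall₂_iff_get.1 e1).2 i li lj
      simp only [List.get_eq_getElem] at a1 a2
      rw [a1, a2, ac]
  have b' : ∀ x ∈ gen gs, cg x w = cg x g := fun x m => Lc.eqg b m
  exact a _ _ e G X gs h (r.nh (w := w) (p.imp fun x y e => (b' _ (el_mem _ _)).trans e) nofun fun _ => ⟨fun x m => by
    obtain ⟨y, -, rfl⟩ := M.ex m
    rw [b' _ m, ac]; exact el_mem _ _, d, fun x m n => M.noK e2 m (by rw [← n, b' _ (el_mem _ _), ac])⟩)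

theorem cD_ok (e : ℕ) {r : Cx → (ℕ → St) → ℕ → Bool} (a : OKn.{u} k) (b : OKd.{u} r) : OKd.{u} (cD e k r) :=
  fun c mk S h x bx => by
  rw [cD, band_eq_true, forceB_eq] at h
  by_cases i : x = e
  · exact i ▸ a _ _ h.1
  · exact b _ _ _ h.2 x (bit_xor bx i)

end Cfsg.Lib.D8
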