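import Cfsg.Agent.Lib.D8.CkB

/-! Soundness of the tower checker, part C: extensions, transfer and changes of chart (helper29). -/

set_option autoImplicit false

namespace Cfsg.Lib.D8

open Cfsg.Lib.H33 Cfsg.Lib.Calc Subgroup

universe u

section
variable {G : Type*} [Group G] {c : Cx} {X : Subgroup G} {gs : List G}

theorem SC.top (h : SC c X gs) (m : el gs c.t ∈ X) : X = ⊤ := by
  rw [← h.gl.top, sup_eq_left.2 (zpowers_le.2 m)]

theorem SC.mulX [Finite G] (h : SC c X gs) (a b : G) (p : a ∉ X) (q : b ∉ X) : a * b ∈ X := by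
  by_cases m : el gs c.t ∈ X
  · rw [h.top m]; trivial
  · exact (mul_mem_iff_of_index_two (Lc.idx h.gl m)).2 (iff_of_false p q)

theorem SS.mk' {s : St} (ff : ∀ p ∈ s.ff, ∃ w, Mq gs w p.1 p.2) (a : s.pn = false) (b : s.pr = []) :
    ∃ w, Mq gs w s.hd.1 s.hd.2 ∧ PD c s gs w := by
  obtain ⟨w, q⟩ : ∃ w, Mq gs w s.hd.1 s.hd.2 := by
    unfold St.hd
    cases e : s.ff with
    | nil => exact ⟨1, .nil⟩
    | cons p l => exact ff p (e ▸ List.mem_cons_self)
  exact ⟨w, q, by simp [b], by simp [a]⟩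

theorem mp2_eq (l : List ℕ) : mp2 l = l.map (2 * ·) := by
  induction l with
  | nil => rfl
  | cons a l ih => exact congrArg (_ :: ·) ih

theorem An.conj {P : Subgroup G} {y p : G} (h : An P y) (m : p ∈ P) : An P (cg y p) := fun Q a b => by
  obtain ⟨v, d, f⟩ := h _ (a.map (cgH p⁻¹)) (by
    rintro _ ⟨x, n, rfl⟩
    rw [cgH_apply, ← cg_symm (rfl : cg y p = _), ← cg_cg', b x n])
  exact ⟨p⁻¹ * v * p, by rw [← cg_cg, ← cg_cg, cg_symm rfl, d], fun x n => by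
    rw [← cg_cg, ← cg_cg]; exact cg_mem (f _ (mem_cg n _)) m⟩

theorem cE1_ok [Finite G] {k k' : Cx → St → Bool} {s : St} (h : SC c X gs) (r : SS c s gs) {w : G} (n : w ∉ gen gs)
    (l : c.chi < 2048) (o : c.o c.t = false → w ∈ X) {g : Gd} (ok : GOK g (w :: gs)) (e : cE1 k k' c s g = true) :
    ∃ x, (k (dblC c g x) (dblS s) = true ∨ k' (dblC c g x) (dblS s) = true) ∧ SC (dblC c g x) X (w :: gs) ∧
      SS (dblC c g x) (dblS s) (w :: gs) := by
  have E : ∀ x, el (w :: gs) (Nat.mul (nat_lit 2) x) = el gs x := el_even w gs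
  have ff : ∀ p ∈ (dblS s).ff, ∃ v, Mq (w :: gs) v p.1 p.2 := fun p m => by
    obtain ⟨p, m', rfl⟩ := List.mem_map.1 m
    obtain ⟨v, q⟩ := r.ff p m'
    exact ⟨v, by simpa only [Mq, mp2_eq, List.forall₂_map_left_iff, List.forall₂_map_right_iff, el_even] using q⟩
  have key : ∀ x < 2, (w ∈ X ↔ x = 0) → SC (dblC c g x) X (w :: gs) ∧ SS (dblC c g x) (dblS s) (w :: gs) := fun x lx i => by
    have lt : 2 * c.chi + x < 4096 := by omega
    refine ⟨⟨ok, ⟨n, h.ind⟩, by rw [List.length_cons, pow_succ', h.len]; rfl, (E _).symm ▸ h.gl, by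
      simpa only [dblC, E] using h.fm, lt, chi_cons h.mulX (c := 2 * c.chi + x) lt (by
        rw [show (2 * c.chi + x) / 2 = c.chi by omega]; exact h.chi) (by rw [i]; omega)⟩, ff, ?_, ?_, nofun, ?_, nofun, nofun,
      SS.mk' ff rfl rfl⟩
    · simpa only [dblS, dblC, E, mp2_eq, List.forall_mem_map, el_even] using r.pl
    · simpa only [dblS, dblC, E, mp2_eq, List.forall_mem_map, el_even] using r.nl
    · simpa only [dblS, mp2_eq, List.forall_mem_map, List.map_map, Function.comp_def, el_even] using r.cn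
  obtain ⟨e1, e2⟩ := band_eq_true.1 e
  by_cases i : w ∈ X
  · exact ⟨0, .inl e1, key 0 (by decide) (iff_of_true i rfl)⟩
  · exact ⟨1, .inr ((bor_eq_true.1 e2).resolve_left fun b => i (o (by simpa [bn_iff] using b))),
      key 1 (by decide) (iff_of_false i (by decide))⟩

theorem SC.cyc [Finite G] (h : SC c X gs) {k0 : Bool} {j g gi : ℕ} (j0 : j ≠ 0) (e : cyc c k0 (2 ^ j) g gi = true)
    {P : Subgroup G} (hP : P = gen (gs.drop (if k0 = true then 1 else 0))) :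
    gen (gs.drop j) ≤ P ∧ (∀ p ∈ P, ∀ k ∈ gen (gs.drop j), cg k p ∈ gen (gs.drop j)) ∧
      (∀ p ∈ P, ∃ n : ℕ, (el gs g ^ n)⁻¹ * p ∈ gen (gs.drop j)) ∧ el gs g ∈ P := by
  have M := h.mu
  simp only [D8.cyc, band_eq_true, ble_iff, bn_iff, allS_iff, allLt_iff, bor_eq_true, forceB_eq, blt_iff, beq_iff, od] at e
  obtain ⟨e1, e2, e3, e4, e5⟩ := e
  have dj := fun x => M.drop e1 x
  have two : 2 ∣ 2 ^ j := dvd_pow_self 2 j0
  have mP : ∀ x, el gs x ∈ P ↔ ¬ (k0 = true ∧ x % 2 = 1) := fun x => by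
    have := Nat.le_of_dvd (Nat.two_pow_pos j) two
    rw [hP]
    split_ifs with i
    · rw [M.drop (by omega)]; simp [i]
    · simp [i, el_mem]
  have gi' : el gs gi = (el gs g)⁻¹ := eq_inv_of_mul_eq_one_right (M.one.1 (beq_iff.2 e2))
  have le : P ≤ gen gs := hP ▸ drop_le _ _
  have cy : ∀ p ∈ P, ∃ n : ℕ, (el gs g ^ n)⁻¹ * p ∈ gen (gs.drop j) := fun p m => by
    obtain ⟨x, -, rfl⟩ := M.ex (le m)
    suffices ∃ n : ℕ, (el gs g ^ n)⁻¹ * el gs (x % 2 ^ j) ∈ gen (gs.drop j) from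
      let ⟨n, a⟩ := this; ⟨n, by rw [el_split gs j x, ← mul_assoc]; exact mul_mem a (el_mem _ _)⟩
    rcases e5 (x % 2 ^ j) (Nat.mod_lt _ (Nat.two_pow_pos j)) with a | a | a | a | a
    · exact absurd ⟨a.1, (Nat.mod_mod_of_dvd x two).symm.trans a.2⟩ ((mP x).1 m)
    · exact ⟨0, by rw [a, el_zero]; simp⟩
    · exact ⟨1, by simpa [M.mul, gi'] using (dj _).2 a⟩
    · exact ⟨2, by simpa [M.mul, gi', pow_two, mul_assoc] using (dj _).2 a⟩
    · exact ⟨3, by simpa [M.mul, gi', pow_succ, mul_assoc] using (dj _).2 a⟩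
  have ng : el gs g ∈ normalizer (gen (gs.drop j) : Set G) := norm_gen fun x m => by
    obtain ⟨i, li, rfl⟩ := mem_pow m
    rw [el_drop, ← pow_add, ← M.cnj (beq_iff.2 e2), dj]
    refine (e4 (j + i) ?_).resolve_left (not_lt.2 (Nat.pow_le_pow_right (by decide) (by omega)))
    rw [List.length_drop] at li; rw [M.lg]; omega
  refine ⟨fun x m => ?_, fun p m k n => ?_, cy, (mP g).2 e3⟩
  · obtain ⟨x, -, rfl⟩ := M.ex (drop_le _ _ m)
    have := (dj x).1 m
    have := Nat.mod_mod_of_dvd x two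
    exact (mP x).2 (by omega)
  · obtain ⟨i, a⟩ := cy p m
    rw [← mul_inv_cancel_left (el gs g ^ i) p, ← cg_cg]
    exact cg_mem (cg_mem_norm n (pow_mem ng i)) a

theorem SC.syX [Finite G] (h : SC c X gs) (a : Sy ⊤ (gen gs)) : Sy X (gen gs ⊓ X) := by
  by_cases m : el gs c.t ∈ X
  · simpa [h.top m] using a
  · exact Sy.inf h.gl m a inf_le_right inf_le_left (by rw [h.half m, h.mu.card])

theorem MU.relG {μ : ℕ → ℕ → ℕ} {N : ℕ} (M : MU gs μ N) {g : Gd} {l : List ℕ} (e : relG μ g l = true) :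
    RelG g (l.map (el gs)) := by
  induction g generalizing l with
  | triv => rw [nul_ok e]; rfl
  | tb T n g ih =>
    obtain ⟨a, e⟩ := band_eq_true.1 e
    exact ⟨by rw [beq_iff.1 a, p2_eq, List.length_map], ih e⟩
  | ext A B n g ih =>
    obtain ⟨w, l, rfl, e'⟩ := hT_ok e
    obtain ⟨a, e'⟩ := band_eq_true.1 e'
    obtain ⟨b, e'⟩ := band_eq_true.1 e'
    obtain ⟨d, f⟩ := band_eq_true.1 e'
    simp only [beq_iff, allS_iff, M.cj, M.hm, p2_eq] at a b d
    rw [a, Nat.log2_two_pow] at d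
    exact ⟨_, _, rfl, by rw [a, List.length_map], by rw [← M.mul, b, M.hm], by rwa [List.length_map], ih f⟩

theorem SC.chiK [Finite G] (h : SC c X gs) {l : List ℕ} {x : ℕ} (a : x < 4096) (e : chiK c l x = true) (y : ℕ) :
    el (l.map (el gs)) y ∈ X ↔ px x y = false := by
  induction l generalizing x y with
  | nil => rw [beq_iff.1 e, px_zero]; simp [el]
  | cons b l ih =>
    obtain ⟨e1, e2⟩ := band_eq_true.1 e
    rw [forceB_eq] at e2
    refine chi_cons h.mulX a (ih (lt_of_le_of_lt (Nat.div_le_self _ _) a) e2) ?_ y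
    simp only [cB_iff, bn_iff, od, beq_iff, h.o, ← Bool.not_eq_true, not_not] at e1
    have : Nat.mod x 2 = x % 2 := rfl
    rcases e1 with e1 | e1
    · exact iff_of_false e1.1 (by omega)
    · exact iff_of_true e1.1 (by omega)

theorem fa2_left {α β : Type} {R : α → β → Prop} {l : List α} {m : List β} (h : List.Forall₂ R l m) {a : α} (p : a ∈ l) :
    ∃ b, R a b := by
  obtain ⟨i, li, rfl⟩ := List.getElem_of_mem p
  exact ⟨_, (List.forall₂_iff_get.1 h).2 i li (h.length_eq ▸ li)⟩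

end

variable {k k' : Cx → St → Bool}

theorem extn_ok (A se us tag a b q S : ℕ) {k : Cx → St → ℕ → ℕ → Bool} (hk : OKe.{u} k) : OKn.{u} (extn A se us tag a b q S k) :=
  fun c s e G _ _ X gs h r => by
  have M := h.mu
  obtain ⟨w, hw, pd⟩ := r.pd
  simp only [extn, hdK_eq, band_eq_true, allS_iff, forceB_eq, M.eq, beq_iff] at e
  obtain ⟨pn, e1, e2, e⟩ := e
  have pn := pd.2 pn
  have tb : ∀ x < c.n, look A x < c.n ∧ cg (el gs x) w = el gs (look A x) := fun x l => by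
    rw [← cgH_apply]
    refine M.tab e2 (cgH w) (fun i li => ?_) l
    have := e1 i (by rw [M.lg]; exact (Nat.pow_lt_pow_iff_right (by decide)).1 (M.len ▸ li))
    rw [cgH_apply, ← this.1, ← this.2, M.hmq hw]
  have t2 : ∀ x < c.n, cg (el gs x) (w * w) = el gs (look A (look A x)) := fun x l => by
    rw [← cg_cg, (tb x l).2, (tb _ (tb x l).1).2]
  obtain ⟨y1, e⟩ := uk_ok e
  rw [mapK_eq] at e
  obtain ⟨n, φ, e, i, li, lt, ei⟩ := h.spec r e pn.2.1 (by
    rw [Mq, List.forall₂_map_right_iff]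
    exact List.forall₂_same.2 fun y _ => by rw [← M.md y]; exact t2 _ (Nat.mod_lt _ M.pos))
  simp only [band_eq_true, allBig_iff, forceB_eq, bor_eq_true, bn_iff, h.o, beq_iff, allS_iff, M.cj] at e
  refine hk _ _ _ _ e.2 (φ i) ((e.1 i li).resolve_right ?_) G X gs w h r tb ei pn.nm fun o => by
    rw [h.top (h.no.1 (bn_iff.2 (by simp [o])))]; trivial
  rw [← ei]
  rintro (n | n | n)
  · by_cases m : w ∈ X
    exacts [n (mul_mem m m), n (h.mulX _ _ m m)]
  · exact n (M.inj (tb _ lt).1 lt (by rw [← (tb _ lt).2, ← ei]; simp [cg, mul_assoc]))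
  · exact n fun j l => t2 _ (by rw [← M.len]; exact Nat.pow_lt_pow_right (by decide) (M.lg ▸ l))

theorem cE_ok (e B T : ℕ) {r : Cx → St → ℕ → ℕ → Bool} (a : OKn.{u} k) (a' : OKn.{u} k') (b : OKe.{u} r) :
    OKe.{u} (cE e B T k k' r) := fun c s A S h x bx G _ _ X gs w hc hs tb ww n o => by
  simp only [cE, band_eq_true, forceB_eq, blt_iff, cB_iff] at h
  obtain ⟨l, h1, h2, h3⟩ := h
  by_cases i : x = e
  swap
  · exact b _ _ _ _ h3 x (bit_xor bx i) G X gs w hc hs tb ww n o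
  have ok := hc.ok.ext hc.len tb h1 (i ▸ ww)
  obtain ⟨g, ok, h⟩ : ∃ g, GOK g (w :: gs) ∧ cE1 k k' c s g = true := by
    rcases h2 with h2 | h2
    · exact ⟨_, ok, h2.2⟩
    · exact ⟨_, ok.tb (by rw [List.length_cons, pow_succ', hc.len]; rfl) h2.2.1, h2.2.2⟩
  obtain ⟨y, h, p, q⟩ := cE1_ok hc hs n l o ok h
  rw [← el_even w gs]
  exact h.elim (fun h => a _ _ h G X _ p q) fun h => a' _ _ h G X _ p q

theorem syr_ok (x : ℕ) (k0 : Bool) (j g gi rs CG CI sm S : ℕ) {k : Cx → (ℕ → St) → ℕ → Bool} (hk : OKd.{u} k) :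
    OKn.{u} (syr x k0 j g gi rs CG CI sm S k) := fun c s e G _ _ X gs h r => by
  have M := h.mu
  simp only [syr, band_eq_true, bn_iff, M.z, h.sq] at e
  obtain ⟨sy, x1, xx, e⟩ := e
  have sy := r.syl sy
  obtain ⟨rs, e⟩ := uk_ok e
  simp only [band_eq_true, allG_iff, h.com, forceB_eq, cB_iff, beq_iff, bor_eq_true, h.no, h.o] at e
  obtain ⟨e1, e2, e3, e4, e5⟩ := e
  obtain ⟨jl, w, m, an⟩ : 2 ^ j ≤ c.n ∧ ∃ w, cg (el gs x) w ∈ gen (gs.drop j) ∧ (k0 = false → An (gen gs) (cg (el gs x) w) ∧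
      ∀ s ∈ gen gs, cg (el gs x) s = el gs x → cg s w ∈ gen gs) := by
    rcases e2 with ⟨rfl, -⟩ | ⟨j0, xX, e2⟩
    · obtain ⟨w, p, q⟩ := syx sy _ (el_mem gs x)
      exact ⟨M.pos, w, q _ (el_mem _ _) (by simp [cg]), fun _ => ⟨p, q⟩⟩
    have j0 : j ≠ 0 := fun n => by rw [n] at j0; cases j0
    refine ⟨ble_iff.1 (band_eq_true.1 e2).1, ?_⟩
    cases k0
    · obtain ⟨p1, p2, p3, p4⟩ := h.cyc j0 e2 (P := gen gs) rfl
      obtain ⟨w, p, q⟩ := thG h.gl sy p1 p2 p3 p4 xX xx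
      exact ⟨w, p, fun _ => q⟩
    · obtain ⟨p1, p2, p3, p4⟩ := h.cyc j0 e2 (P := gen (gs.drop 1)) rfl
      obtain ⟨c1, tX⟩ := e3.resolve_left (by simp [bn])
      have n2 : 2 ^ 1 ≤ c.n := le_trans (Nat.pow_le_pow_right (by decide) (by omega)) (ble_iff.1 (band_eq_true.1 e2).1)
      obtain ⟨w, p⟩ := thX h.gl (Sy.inf h.gl tX sy (fun y m => by
        obtain ⟨y, -, rfl⟩ := M.ex (drop_le _ _ m)
        have := (M.drop n2 y).1 m
        rw [h.chi, c1, px_step (by decide), px_zero, decide_eq_false (by omega)]; rfl) (drop_le _ _)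
        (by rw [M.card, ← M.card_drop n2, pow_one])) p1 p2 p3 p4 xX xx
      exact ⟨w, p, nofun⟩
  obtain ⟨y, ly, ey⟩ := M.ex (drop_le _ _ m)
  rw [ey, M.drop jl] at m
  obtain ⟨i, rfl⟩ := Nat.dvd_of_mod_eq_zero m
  obtain ⟨S', e4, cv⟩ := M.cov (H := gen gs) (fun g _ => el_mem _ _) e4
  have e4 := allBig_iff.1 e4 i ((Nat.lt_div_iff_mul_lt' (M.len ▸ Nat.pow_dvd_pow 2
    ((Nat.pow_le_pow_iff_right (by decide)).1 (M.len ▸ jl))) i).2 ly)
  simp only [bor_eq_true, beq_iff, bn_iff, h.sq] at e4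
  obtain ⟨v, mv, z, bz, ez⟩ := cv _ (e4.resolve_right (by
    change ¬ (2 ^ j * i = 0 ∨ dX c x (2 ^ j * i) = true ∨ ¬ el gs (2 ^ j * i) * el gs (2 ^ j * i) = 1)
    rintro (n | n | n)
    · rw [n, el_zero, cg_eq_one] at ey; exact x1 ey
    · exact h.dX n w ey
    · exact n (by rw [← ey, ← cg_mul, xx, cg_eq_one])))
  have q : Mq gs (w * v) [x] [z] := .cons (by rw [← cg_cg, ey]; exact ez) .nil
  have := hk _ _ _ e5 z bz G X gs h
  cases k0
  · refine this (SS.nh (s := { s with an := z :: s.an }) ⟨r.ff, r.pl, r.nl, r.cz, r.cn, List.forall_mem_cons.2 ⟨?_, r.an⟩,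
      r.syl, r.pd⟩ q (fun a m => ?_) nofun)
    · rw [← ez]; exact (ey ▸ (an rfl).1).conj mv
    · rw [← cg_cg]; exact cg_mem ((an rfl).2 _ (el_mem _ _) (e1 a m)) mv
  · exact this (r.nh q nofun nofun)

theorem SC.ela {G : Type*} [Group G] {c : Cx} {X : Subgroup G} {gs : List G} (h : SC c X gs) {a : List ℕ} (e : ela c a = true) :
    ∀ x ∈ a.map (el gs), x * x = 1 ∧ ∀ y ∈ a.map (el gs), cg y x = y := by
  simpa only [D8.ela, allG_iff, band_eq_true, h.sq, h.com, List.forall_mem_map] using e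

theorem cnt_ok (a sa j sb T2 T3 : ℕ) (hk : OKn.{u} k) : OKn.{u} (cnt a sa j sb T2 T3 k) := fun c s e G _ _ X gs h r => by
  have M := h.mu
  obtain ⟨a, e⟩ := uk_ok e
  simp only [band_eq_true] at e
  obtain ⟨e1, e2, e3, e4, e5⟩ := e
  obtain ⟨b, ce, e3⟩ := h.cnW r e3
  simp only [band_eq_true, allLt_iff, forceB_eq, bor_eq_true, beq_iff, anyG_iff, bn_iff, h.com, M.cj, M.mul, p2_eq] at e3 e4
  refine hk _ _ e5 G X gs h ⟨r.ff, r.pl, r.nl, r.cz, List.forall_mem_cons.2 ⟨cent (h.ela e1) h.gl.tt (fun y m => ?_)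
    (fun x p q n => ?_) fun i li n => ?_, r.cn⟩, r.an, r.syl, r.pd⟩
  · obtain ⟨y, m', rfl⟩ := List.mem_map.1 m
    obtain ⟨i, e⟩ := (rdA_ok e2).1 y m'
    rw [M.cj.1 e]; exact M.hm_mem _ _
  · obtain ⟨i, li, rfl⟩ := ce.2 x (fun y m => by
      obtain ⟨y, m', rfl⟩ := List.mem_map.1 m
      obtain ⟨i, e⟩ := (rdA_ok e3.1).1 y m'
      rw [M.eq.1 e]
      exact Lc.fixg (List.forall_mem_cons.2 ⟨q, p⟩) (M.hm_mem (c.t :: a) i)) n
    rw [← M.hm] at p ⊢
    rcases e3.2 i (by simpa using li) with e | ⟨y, m, e⟩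
    · rw [e]; exact M.hm_mem _ _
    · exact absurd (p _ (List.mem_map_of_mem m)) e
  · rw [← M.hm] at n ⊢
    rcases e4 i (by simpa using li) with e | e
    · exact ⟨_, M.hm_mem _ _, e⟩
    · exact absurd (by rwa [M.mul]) (h.neg r e)

theorem cut_ok {env : List (Cx × St)} (he : ∀ e ∈ env, Valid.{u} e.1 e.2) (i : ℕ) : OKn.{u} (cut env i) :=
  fun c s e G _ _ X gs h r => by
  obtain ⟨⟨c', s'⟩, m, e⟩ := nthK_ok e
  simp only [band_eq_true, allG_iff, anyG_iff, beqL_iff, memL_iff, beq_iff, bor_eq_true, bn_iff, hdK_eq, Cx.beq] at e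
  obtain ⟨⟨a1, a2, a3, a4, a5, a6, a7, a8, a9, a10⟩, e1, e2, e3, e4, e5, e6, e7, e8⟩ := e
  obtain rfl : c = c' := by
    cases c; cases c'
    simp only [Cx.mk.injEq]
    exact ⟨Gd.eq_of_beq a10, a1, a2, a3, a4, a5, a6, a7, a8, a9⟩
  have ff : ∀ p ∈ s'.ff, ∃ w, Mq gs w p.1 p.2 := fun p m => by
    obtain ⟨q, n, a, b⟩ := e1 p m
    rw [a, b]; exact r.ff q n
  refine he _ m G X gs h ⟨ff, fun x m => r.pl x (e2 x m), fun x m => r.nl x (e3 x m), fun p m => ?_, fun p m => ?_,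
    fun x m => r.an x (e6 x m), fun a => r.syl (e7.resolve_left fun n => n a), ?_⟩
  · obtain ⟨q, n, a, b, d⟩ := e4 p m
    rw [a, b, d]; exact r.cz q n
  · obtain ⟨q, n, a⟩ := e5 p m
    exact a ▸ r.cn q n
  · rcases e8 with e8 | ⟨a, b, d, f⟩
    · exact SS.mk' ff (by simpa using e8.1) (nul_ok e8.2)
    · obtain ⟨w, p, q⟩ := r.pd
      exact ⟨w, a ▸ b ▸ p, fun x m => q.1 x (f x m), fun n => q.2 (d.resolve_left fun e => e n)⟩

theorem iso_ok {genv : List Gd} (hg : ∀ g ∈ genv, TabOK.{u} g) (e : Cx) (v : St) (i l iv : ℕ) (Ws : List ℕ) (hk : OKn.{u} k) :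
    OKn.{u} (iso genv e v i l iv Ws k) := fun c s a G _ _ X gs h r => by
  have M := h.mu
  simp only [iso, band_eq_true, beq_iff] at a
  obtain ⟨a1, a2, a⟩ := a
  obtain ⟨g, mg, a1⟩ := nthK_ok a1
  obtain rfl := Gd.eq_of_beq a1
  obtain ⟨l, a⟩ := uk_ok a
  simp only [band_eq_true, beq_iff, allS_iff, M.eq, blt_iff, all2_iff, mapK_eq, allG_iff, forceB_eq, anyG_iff, beqL_iff, memL_iff,
    bor_eq_true, bn_iff, frm, h.com, M.cj, M.mul, M.hm, p2_eq] at a
  obtain ⟨b1, b2, b3, ⟨f1, f2, f3, f4, f5⟩, b4, b5, b6, b7, b8, b9, b10, b11, b12, b13, b14, b15⟩ := a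
  have ok := hg _ mg G _ (M.relG b2)
  have ge : gen (l.map (el gs)) = gen gs := le_antisymm (MU.gle l) (gen_le.2 (M.gens fun i li => b3 i li ▸ el_mem _ _))
  have ff : ∀ p ∈ v.ff, ∃ w, Mq (l.map (el gs)) w p.1 p.2 := fun p m => by
    obtain ⟨W, q⟩ := fa2_left b6 m
    obtain ⟨w, zs, q1, q2⟩ := M.wd r.ff q
    simp only [all2_iff, M.eq, M.hm] at q2
    simp only [Mq, List.forall₂_map_left_iff, M.hm] at q1
    refine ⟨w, ?_⟩
    generalize p.1 = xs at q1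
    generalize p.2 = ys at q2
    clear q
    induction q1 generalizing ys with
    | nil => cases q2; exact .nil
    | cons a _ ih => cases q2 with | cons b q2 => exact .cons (a.trans b) (ih _ q2)
  rw [← f2, f1]
  refine hk _ _ b15 G X _ ⟨ok, ?_, by rw [List.length_map, a2, b1], f2 ▸ h.gl, ?_, b4, h.chiK b4 b5⟩ ⟨ff, fun x m => ?_,
    fun x m => ?_, by simp [nul_ok b9], fun a m => ?_, fun x m => ?_, fun a => ge ▸ r.syl (b12.resolve_left fun n => n a),
    SS.mk' ff (by simpa using b13) (nul_ok b14)⟩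
  · obtain ⟨D, p⟩ := ok.rel
    exact rel_ind p (by rw [ge, M.card, List.length_map, b1])
  · rw [f2, f3, ← f1]
    exact (h.fm.sym f4 fun n => let a := f5.resolve_left fun e => e n; ⟨h.inT (ge ▸ el_mem _ _) a.1, a.2⟩).1
  · rw [f2, ← M.hm]; exact h.pos r (b7 x m)
  · rw [f2, ← M.hm]; exact h.neg r (b8 x m)
  · obtain ⟨b, n, e⟩ := b10 a m
    have := r.cn b n
    rw [← e, List.map_map] at this
    exact (List.map_congr_left fun x _ => M.hm l x) ▸ this
  · rw [ge, ← M.hm]; exact r.an _ (b11 x m)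

end Cfsg.Lib.D8
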