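import Cfsg.Agent.Lib.D8.Fm
import Cfsg.Agent.Lib.Transfer.Extremal
import Cfsg.Agent.Lib.Y12.Tr

/-! (docs/D8.md, tower; helper29, helper3): local lemmas behind the rules of the checker. Independent of each other; proofs in the docstrings. -/

set_option autoImplicit false
set_option linter.unusedSectionVars false
set_option linter.unusedVariables false

namespace Cfsg.Lib.D8

open Cfsg.Lib.H33 Subgroup Cfsg.Lib.Transfer
open scoped Cfsg.Lib.Transfer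

variable {G : Type*} [Group G] [Finite G]

namespace Lc

theorem el_cg (a : List G) (w : G) (c : ℕ) : el (a.map (cg · w)) c = cg (el a c) w := by
  induction a generalizing c with
  | nil => simp [el]
  | cons g a ih => simp only [List.map_cons, el, ih, cg_mul]; split_ifs <;> simp

theorem fixg {gs : List G} {g y : G} (h : ∀ x ∈ gs, cg x g = x) (m : y ∈ gen gs) : cg y g = y :=
  cg_comm (mem_cent.1 (gen_le.2 (fun x a => mem_cent.2 (cg_comm (h x a))) m))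

theorem eqg {gs : List G} {g k y : G} (h : ∀ x ∈ gs, cg x g = cg x k) (m : y ∈ gen gs) : cg y g = cg y k := by
  rw [← cg_inv_cg (cg y g) k, cg_cg y g, fixg (g := g * k⁻¹) (fun x a => by rw [← cg_cg, h x a, cg_cg_inv]) m]

theorem ea {a : List G} (h : ∀ x ∈ a, x * x = 1 ∧ ∀ y ∈ a, cg y x = y) {x : G} (m : x ∈ gen a) :
    (∃ c < 2 ^ a.length, x = el a c) ∧ x * x = 1 ∧ ∀ y ∈ gen a, cg y x = y := by
  have c : ∀ x ∈ gen a, ∀ y ∈ gen a, cg y x = y := fun x m y n => fixg (fun y n => cg_comm (fixg (fun z p => (h y n).2 z p) m)) n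
  refine ⟨?_, ?_, c x m⟩
  · clear c
    induction a generalizing x with
    | nil => exact ⟨0, one_pos, by simpa [gen_nil, el] using m⟩
    | cons g a ih =>
      have i := fun x => ih (x := x) fun x p => ⟨(h x (.tail _ p)).1, fun y q => (h x (.tail _ p)).2 y (.tail _ q)⟩
      have g2 := (h g (.head _)).1
      rcases mem_sup_zp (P := gen a) (g2 ▸ one_mem _) (norm_gen fun y p => ((h g (.head _)).2 y (.tail _ p)).symm ▸ mem_gen p)
        (gen_le.2 (fun y p => (List.mem_cons.1 p).elim (fun e => e ▸ mem_sup_right (mem_zpowers _)) fun e => mem_sup_left (mem_gen e)) m)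
        with p | p <;> obtain ⟨c, l, e⟩ := i _ p
      · exact ⟨2 * c, by rw [List.length_cons, pow_succ]; omega, by rw [el_even, e]⟩
      · exact ⟨2 * c + 1, by rw [List.length_cons, pow_succ]; omega, by rw [el_odd, ← e, mul_inv_cancel_left]⟩
  · refine closure_induction (p := fun x _ => x * x = 1) (fun x p => (h x p).1) (one_mul 1) (fun x y p q r s => ?_) (fun x _ r => ?_) m
    · rw [(show Commute y x from cg_eq_iff.1 (c x p y q)).mul_mul_mul_comm, r, s, one_mul]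
    · rw [← mul_inv_rev, r, inv_one]

theorem mem {a : List G} (h : CenL a) {x : G} (c : ∀ y ∈ a, cg y x = y) {P : Subgroup G} (hP : IsPGroup 2 P) (m : x ∈ P) : x ∈ gen a :=
  let ⟨_, _, e⟩ := h.2 x c (pow_of_pg hP m); e ▸ el_mem _ _

theorem into {T H Q : Subgroup G} (h : ¬ 2 ∣ T.relIndex H) (hQ : IsPGroup 2 Q) (l : Q ≤ H) : ∃ w ∈ H, ∀ x ∈ Q, cg x w ∈ T :=
  let ⟨w, m, e⟩ := exists_conj_le_of_not_dvd_relIndex' h hQ l
  ⟨w⁻¹, inv_mem m, fun y a => by simpa [cg] using conj_le_iff.1 e y a⟩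

theorem an_of {P : Subgroup G} {y : G} (h : ¬ 2 ∣ P.relIndex (centralizer {y})) : An P y := fun Q p q =>
  let ⟨w, m, e⟩ := into h p fun x a => mem_cent.2 (q x a); ⟨w, mem_cent.1 m, e⟩

theorem nd {X S : Subgroup G} (h : Sy X S) : ¬ 2 ∣ S.relIndex X := fun e =>
  h.mx (card_mul_relIndex h.le ▸ mul_comm 2 _ ▸ Nat.mul_dvd_mul_left _ e)

theorem perf {X : Subgroup G} {t : G} (gl : Gl X t) : commutator X = ⊤ :=
  haveI := gl.sim
  (Normal.eq_bot_or_eq_top inferInstance).resolve_left fun e => gl.nab ⟨⟨fun a b => commutatorElement_eq_one_iff_mul_comm.1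
    (mem_bot.1 (e.le (commutator_mem_commutator (mem_top a) (mem_top b))))⟩⟩

theorem lec {X : Subgroup G} {t x : G} (gl : Gl X t) (m : x ∈ X) : x ∈ commutator G :=
  (map_commutator_eq X X.subtype).le.trans (commutator_mono le_top le_top) ⟨⟨x, m⟩, (perf gl).ge (mem_top _), rfl⟩

theorem th {P K C : Subgroup G} (hP : Sy ⊤ P) (nK : ∀ p ∈ P, ∀ k ∈ K, cg k p ∈ K) {g : G} (cy : ∀ p ∈ P, ∃ n : ℕ, (g ^ n)⁻¹ * p ∈ K)
    (hg : g ∈ P) {x : G} (xX : x ∈ commutator G) (xx : x * x = 1) (hC : IsPGroup 2 C) (l : C ≤ centralizer {x}) :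
    ∃ w, cg x w ∈ K ∧ An P (cg x w) ∧ ∀ s ∈ C, cg s w ∈ P := by
  obtain ⟨S, rfl⟩ := exists_sylow_eq_iff.2 ⟨hP.pg, relIndex_top_right P ▸ nd hP⟩
  have : (K.subgroupOf (S : Subgroup G)).Normal := ⟨fun k m p => by simpa [cg, mem_subgroupOf] using nK _ (inv_mem p.2) _ m⟩
  have cyc : IsCyclic ((S : Subgroup G) ⧸ K.subgroupOf S) := ⟨⟨QuotientGroup.mk ⟨g, hg⟩, fun p => by
    obtain ⟨p, rfl⟩ := QuotientGroup.mk_surjective p
    obtain ⟨n, e⟩ := cy p p.2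
    exact ⟨n, by beta_reduce; rw [zpow_natCast, ← QuotientGroup.mk_pow, QuotientGroup.eq]; exact e⟩⟩⟩
  obtain ⟨w, a, -, b, c⟩ := exists_extremal_conj_mem S cyc xx (mem_sup_right xX) hC l
  have e : ∀ x, cg x w⁻¹ = w * x * w⁻¹ := fun x => by simp [cg]
  exact ⟨w⁻¹, e x ▸ a, e x ▸ an_of (by rwa [inf_relIndex_right] at b), fun s m => e s ▸ (conj_le_iff.1 c s m).1⟩

theorem idx {X : Subgroup G} {t : G} (gl : Gl X t) (tX : t ∉ X) : X.index = 2 := index_eq_two_iff'.2 ⟨t, fun b => by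
  have := gl.nX
  by_cases p : b ∈ X
  · exact .inr ⟨p, fun q => tX ((mul_mem_cancel_right p).1 q)⟩
  · exact .inl ⟨inv_eq_of_mul_eq_one_right gl.tt ▸ (mem_sup_zp (gl.tt ▸ one_mem _) (le_normalizer_of_normal (mem_top t))
      (gl.top.ge (mem_top b))).resolve_left p, p⟩⟩

end Lc

open Lc

theorem CenL.conj {a : List G} (h : CenL a) (w : G) : CenL (a.map (cg · w)) := by
  refine ⟨List.forall_mem_map.2 fun x m => ⟨by rw [← cg_mul, (h.1 x m).1, cg_one], List.forall_mem_map.2 fun y n => by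
    rw [← cg_cg', (h.1 x m).2 y n]⟩, fun x c ⟨n, e⟩ => ?_⟩
  obtain ⟨k, l, p⟩ := h.2 (cg x w⁻¹) (fun y m => cg_inj.1 (by rw [cg_cg', cg_inv_cg]; exact c _ (List.mem_map_of_mem m)))
    ⟨n, by rw [← cg_pow, e, cg_one]⟩
  exact ⟨k, by rwa [List.length_map], by rw [el_cg, ← p, cg_inv_cg]⟩

/-- Write `g = a₀ o` with `a₀` a 2-element (so in the span) and `o` of odd order `m`, both powers of `g`.  Induction: `o` centralises
`K = gen (l ++ a)`, `x` normalises `K`; `x⁻¹ x^o = (o⁻¹)^x o ∈ P` (as `x^o = (x^g)^{a₀⁻¹}`) is a 2-element centralising `a`, so it is an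
`a'` of the span, commuting with `o^x`; raise `o = o^x a'` to the power `m`. -/
theorem stab {a : List G} (h : CenL a) {P : Subgroup G} (hP : IsPGroup 2 P) (aP : ∀ y ∈ a, y ∈ P) {g : G}
    (hg : ∀ y ∈ a, cg y g = y) : ∃ c < 2 ^ a.length, ∀ l, NCh a l → (∀ x ∈ l, x ∈ P ∧ cg x g ∈ P) →
      ∀ x ∈ l, cg x g = cg x (el a c) := by
  obtain ⟨b, hb, o, ho, b2, oo, e⟩ := exists_p_part_mul_p'_part (p := 2) g
  have z : ∀ u ∈ zpowers g, ∀ y ∈ a, cg y u = y := fun u m y n => mem_cent.1 (zpowers_le.2 (mem_cent.2 (hg y n)) m)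
  obtain ⟨c, lt, rfl⟩ := h.2 b (z b hb) b2
  have e' : g = o * el a c := e.trans (setLike_mul_comm (s := zpowers g) hb ho)
  refine ⟨c, lt, fun l n p x m => ?_⟩
  suffices k : ∀ x ∈ l, cg x o = x by rw [e', ← cg_cg, k x m]
  clear m x
  induction l with
  | nil => exact nofun
  | cons x l ih =>
    have i := ih n.2 fun y m => p y (.tail _ m)
    refine List.forall_mem_cons.2 ⟨?_, i⟩
    have c1 : ∀ y ∈ gen (l ++ a), cg y o = y := fun y => fixg fun y m => (List.mem_append.1 m).elim (i y) (z o ho y)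
    have c2 : ∀ y ∈ gen (l ++ a), cg y (cg o x) = y := fun y m => by
      rw [← cg_inv_cg y x, ← cg_cg', c1 _ (cg_mem_norm m (inv_mem (norm_gen n.1)))]
    have aK : gen a ≤ gen (l ++ a) := gen_le.2 fun y m => mem_gen (List.mem_append_right _ m)
    have q : cm x o = (cg o x)⁻¹ * o := by simp [cm, cg, mul_assoc]
    have u : cm x o ∈ gen a := mem h (fun y m => by
      rw [q]; exact cg_fix_mul (cg_fix_inv (c2 y (aK (mem_gen m)))) (c1 y (aK (mem_gen m)))) hP (mul_mem (inv_mem (p x (.head _)).1) (by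
        rw [← cg_cg_inv (cg x o) (el a c), cg_cg x, ← e']
        exact cg_mem (p x (.head _)).2 (inv_mem (gen_le.2 aP (el_mem _ _)))))
    obtain ⟨k, r⟩ := Nat.coprime_two_right.1 oo
    have : (cg o x * cm x o) ^ orderOf o = 1 := by rw [q, mul_inv_cancel_left, pow_orderOf_eq_one]
    rw [Commute.mul_pow (cg_eq_iff.1 (c2 _ (aK u))).symm, ← cg_pow, pow_orderOf_eq_one, cg_one, one_mul, r, pow_succ, pow_mul, sq,
      (ea h.1 u).2.1, one_pow, one_mul] at this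
    exact cm_eq_one.1 this

/-- `K = gen ys`, `C = C(K)`: `⟨K, q⟩` is a Sylow 2-subgroup of `⟨K, q⟩ C` (the 2-elements of `C` lie in `K`), which contains the
2-group `⟨K, r⟩`; conjugate, and drop the `⟨K, q⟩`-part of the conjugating element. -/
theorem ext1 {a ys : List G} (h : CenL a) (ha : ∀ y ∈ a, y ∈ gen ys) {P Q : Subgroup G} (hP : IsPGroup 2 P)
    (hQ : IsPGroup 2 Q) (hy : ∀ y ∈ ys, y ∈ P ∧ y ∈ Q) {q r : G} (qP : q ∈ P) (rQ : r ∈ Q)
    (e : ∀ y ∈ ys, cg y r = cg y q ∧ cg y q ∈ gen ys) : ∃ c, (∀ y ∈ ys, cg y c = y) ∧ cg r c ∈ P := by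
  let K := gen ys
  have qN : q ∈ normalizer (K : Set G) := norm_gen fun y m => (e y m).2
  have l : K ⊔ zpowers q ≤ P := sup_le (gen_le.2 fun y m => (hy y m).1) (zpowers_le.2 qP)
  have n : K ⊔ zpowers q ≤ normalizer (centralizer (K : Set G) : Set G) :=
    (sup_le le_normalizer (zpowers_le.2 qN)).trans (normalizer_le_normalizer_centralizer' K)
  have mc : ∀ {c}, c ∈ centralizer (K : Set G) ↔ ∀ y ∈ K, cg y c = y := forall₂_congr fun _ _ => cg_eq_iff.symm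
  obtain ⟨w, m, p⟩ := into (H := centralizer (K : Set G) ⊔ (K ⊔ zpowers q)) (not_dvd_relIndex_of_maximal le_sup_right (hP.to_le l)
    fun T pT a b x m => by
      obtain ⟨c, u, ρ, v, rfl⟩ := exists_mul_of_mem_sup n (b m)
      exact mul_mem (mem_sup_left (gen_le.2 ha (mem h (fun y k => mc.1 u y (ha y k)) pT ((mul_mem_cancel_right (a v)).1 m)))) v)
    (hQ.to_le (zpowers_le.2 rQ)) (zpowers_le.2 (by
      rw [← inv_mul_cancel_right r q]
      exact mul_mem_sup (mc.2 fun y m => by rw [← cg_cg, eqg (fun y m => (e y m).1) m, cg_cg_inv]) (mem_sup_right (mem_zpowers q))))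
  obtain ⟨c, u, ρ, v, rfl⟩ := exists_mul_of_mem_sup n m
  exact ⟨c, fun y m => mc.1 u y (mem_gen m), l (by simpa [← cg_cg] using cg_mem (p r (mem_zpowers r)) (inv_mem v))⟩

/-- `K = gen ys`, `C = C(K)`, `U = N_P(K)`: `U` is a Sylow 2-subgroup of `U C` (the 2-elements of `C` lie in `K ≤ U`), and `U C`
contains the 2-group `⟨K, rs⟩ ≤ Q` (`r q⁻¹ ∈ C`); conjugate it into `U` by `c u`, and drop `u`. -/
theorem extL {a ys rs : List G} (h : CenL a) (ha : ∀ y ∈ a, y ∈ gen ys) {P Q : Subgroup G} (hP : IsPGroup 2 P)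
    (hQ : IsPGroup 2 Q) (hy : ∀ y ∈ ys, y ∈ P ∧ y ∈ Q)
    (e : ∀ r ∈ rs, r ∈ Q ∧ ∃ q ∈ P, ∀ y ∈ ys, cg y r = cg y q ∧ cg y q ∈ gen ys) :
    ∃ c, (∀ y ∈ ys, cg y c = y) ∧ ∀ r ∈ rs, cg r c ∈ P := by
  let K := gen ys
  let U := P ⊓ normalizer (K : Set G)
  have l : K ≤ U := le_inf (gen_le.2 fun y m => (hy y m).1) le_normalizer
  have n : U ≤ normalizer (centralizer (K : Set G) : Set G) := inf_le_right.trans (normalizer_le_normalizer_centralizer' K)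
  have mc : ∀ {c}, c ∈ centralizer (K : Set G) ↔ ∀ y ∈ K, cg y c = y := forall₂_congr fun _ _ => cg_eq_iff.symm
  obtain ⟨w, m, p⟩ := into (H := centralizer (K : Set G) ⊔ U) (not_dvd_relIndex_of_maximal le_sup_right (hP.to_le inf_le_left)
    fun T pT a b x m => by
      obtain ⟨c, u, ρ, v, rfl⟩ := exists_mul_of_mem_sup n (b m)
      exact mul_mem (l (gen_le.2 ha (mem h (fun y k => mc.1 u y (ha y k)) pT ((mul_mem_cancel_right (a v)).1 m)))) v)
    (hQ.to_le (inf_le_left (b := centralizer (K : Set G) ⊔ U))) inf_le_right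
  obtain ⟨c, u, ρ, v, rfl⟩ := exists_mul_of_mem_sup n m
  refine ⟨c, fun y m => mc.1 u y (mem_gen m), fun r k => ?_⟩
  obtain ⟨rQ, q, qP, e⟩ := e r k
  have := p r ⟨rQ, inv_mul_cancel_right r q ▸ mul_mem_sup (mc.2 fun y m => by
    rw [← cg_cg, eqg (fun y m => (e y m).1) m, cg_cg_inv]) ⟨qP, norm_gen fun y m => (e y m).2⟩⟩
  exact (show _ ∈ U by simpa [← cg_cg] using cg_mem this (inv_mem v)).1

/-- `u = g^(2k+1)` a 2-element acts on `P` as `g q^k`; `w = u q^{-k}`; `w² q⁻¹` is a 2-element (of `⟨P, u⟩`) centralising `P`. -/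
theorem lift {a gs : List G} (h : CenL a) (ha : ∀ y ∈ a, y ∈ gen gs) (hP : IsPGroup 2 (gen gs)) {g q : G}
    (hg : ∀ x ∈ gs, cg x g ∈ gen gs) (hq : q ∈ gen gs) (e : ∀ x ∈ gs, cg (cg x g) g = cg x q) :
    ∃ w, (∀ x ∈ gs, cg x w = cg x g) ∧ w * w ∈ gen gs := by
  obtain ⟨_, n, ⟨k, rfl⟩, u⟩ := exists_odd_pow g
  have gN := norm_gen hg
  have e1 : ∀ x ∈ gen gs, cg x (g * g) = cg x q := fun x => eqg fun x m => (cg_cg _ _ _).symm.trans (e x m)
  have e2 : ∀ j : ℕ, ∀ x ∈ gen gs, cg x (g ^ (2 * j)) = cg x (q ^ j) := fun j x m => by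
    induction j with
    | zero => simp
    | succ j ih => rw [mul_add, pow_add, ← cg_cg, ih, mul_one, sq, e1 _ (cg_mem m (pow_mem hq j)), cg_cg, pow_succ]
  have e3 : ∀ x ∈ gen gs, cg x (g ^ (2 * k + 1) * (q ^ k)⁻¹) = cg x g := fun x m => by
    rw [pow_succ', ← cg_cg, ← cg_cg, e2 k _ (cg_mem_norm m gN), cg_cg_inv]
  refine ⟨_, fun x m => e3 x (mem_gen m), (mul_mem_cancel_right (inv_mem hq)).1 (gen_le.2 ha (mem h (fun y m => ?_)
    (pg_sup hP u (pow_mem gN _)) ?_))⟩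
  · rw [← cg_cg, ← cg_cg, e3 _ (ha y m), e3 _ (cg_mem_norm (ha y m) gN), cg_cg y, e1 _ (ha y m), cg_cg_inv]
  · have := mul_mem (mem_sup_right (mem_zpowers _) : g ^ (2 * k + 1) ∈ gen gs ⊔ _) (mem_sup_left (inv_mem (pow_mem hq k)))
    exact mul_mem (mul_mem this this) (mem_sup_left (inv_mem hq))

/-- `H33.climb`; if `t^w = t^p` then `w p⁻¹ ∈ ⟨P, w⟩` centralises `t`, so lies in `P`. -/
theorem climbT {P : Subgroup G} (hP : IsPGroup 2 P) (h : ¬ Sy ⊤ P) {t : G}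
    (mx : ∀ Q : Subgroup G, IsPGroup 2 Q → P ≤ Q → ∀ x ∈ Q, cg t x = t → x ∈ P) :
    ∃ w, (∀ x ∈ P, cg x w ∈ P) ∧ w * w ∈ P ∧ ∀ p ∈ P, cg t w ≠ cg t p := by
  obtain ⟨w, a, b, c⟩ := climb hP (by_contra fun n => h ⟨hP, le_top, by rwa [card_top]⟩)
  exact ⟨w, fun x m => cg_mem_norm m a, c, fun p m e => b ((mul_mem_cancel_right (inv_mem m)).1 (mx _ (pg_sup' hP c a) le_sup_left _
    (mul_mem (mem_sup_right (mem_zpowers w)) (mem_sup_left (inv_mem m))) (by rw [← cg_cg, e, cg_cg_inv])))⟩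

/-- Extremal conjugates: put `C_P(x)` in a Sylow subgroup of `C(x)` and that in a conjugate of `P`. -/
theorem syx {P : Subgroup G} (hP : Sy ⊤ P) (x : G) (hx : x ∈ P) :
    ∃ w, An P (cg x w) ∧ ∀ s ∈ P, cg x s = x → cg s w ∈ P := by
  obtain ⟨D, a, b, c, d⟩ := exists_sylowIn_ge (hP.pg.to_le (inf_le_left : P ⊓ centralizer {x} ≤ P)) inf_le_right
  obtain ⟨w, -, e⟩ := into (nd hP) c le_top
  refine ⟨w, fun Q p q => ?_, fun s m k => e s (a ⟨m, mem_cent.2 k⟩)⟩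
  obtain ⟨v, m, k⟩ := into d (p.map (cgH w⁻¹)) (by
    rintro _ ⟨y, m, rfl⟩; rw [cgH_apply, mem_cent, ← cg_cg_inv x w, ← cg_cg', q y m])
  exact ⟨cg v w, by rw [← cg_cg', mem_cent.1 m], fun y n => by
    simpa [cg_cg' _ v w] using e _ (k _ ⟨y, n, cgH_apply _ _⟩)⟩

/-- Thompson transfer with an extremal conjugate (`Transfer.exists_extremal_conj_mem`; `X` is perfect). -/
theorem thG {X P K : Subgroup G} {t : G} (gl : Gl X t) (hP : Sy ⊤ P) (hK : K ≤ P) (nK : ∀ p ∈ P, ∀ k ∈ K, cg k p ∈ K)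
    {g : G} (cy : ∀ p ∈ P, ∃ n : ℕ, (g ^ n)⁻¹ * p ∈ K) (hg : g ∈ P) {x : G} (xX : x ∈ X) (xx : x * x = 1) :
    ∃ w, cg x w ∈ K ∧ An P (cg x w) ∧ ∀ s ∈ P, cg x s = x → cg s w ∈ P := by
  obtain ⟨w, a, b, c⟩ := th hP nK cy hg (lec gl xX) xx (hP.pg.to_le (inf_le_left : P ⊓ centralizer {x} ≤ P)) inf_le_right
  exact ⟨w, a, b, fun s m e => c s ⟨m, mem_cent.2 e⟩⟩

/-- Thompson transfer inside `X` (`Transfer.exists_conj_mem_and_conj_le` in the group `X`). -/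
theorem thX {X P K : Subgroup G} {t : G} (gl : Gl X t) (hP : Sy X P) (hK : K ≤ P) (nK : ∀ p ∈ P, ∀ k ∈ K, cg k p ∈ K)
    {g : G} (cy : ∀ p ∈ P, ∃ n : ℕ, (g ^ n)⁻¹ * p ∈ K) (hg : g ∈ P) {x : G} (xX : x ∈ X) (xx : x * x = 1) :
    ∃ w, cg x w ∈ K := by
  obtain ⟨w, a, -⟩ := th (G := X) (P := P.subgroupOf X) (K := K.subgroupOf X) (g := ⟨g, hP.le hg⟩) (x := ⟨x, xX⟩)
    ⟨hP.pg.comap_subtype, le_top, by rw [card_top, Nat.card_congr (subgroupOfEquivOfLe hP.le).toEquiv]; exact hP.mx⟩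
    (fun p m k n => nK p m k n) (fun p m => cy p m) hg ((perf gl).ge (mem_top _)) (Subtype.ext xx) IsPGroup.of_bot bot_le
  exact ⟨w, a⟩

/-- The counting form of transfer (`S67.tc` or `Y12.tc`; `t ∈ X` gives `X = ⊤` simple, `|C(t)| = tn · odd`, `tn` a power of 2). -/
theorem tcI {X K K0 : Subgroup G} {tn : ℕ} {t f z v1 v2 d : G} (gl : Gl X t) (tX : t ∈ X) (h : Fm tn t f z v1 v2 d)
    (hK : IsPGroup 2 K) (hle : K0 ≤ K) (h2 : Nat.card K = 2 * Nat.card K0) :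
    2 * Nat.card K ∣ tn * {v | IsConj t v ∧ v ∈ K ∧ v ∉ K0}.ncard := by
  have := Y12.tc (K := K) (K0 := K0) (fun φ => Abelianization.commutator_subset_ker φ (lec gl tX)) gl.tt hle
    (Nat.eq_of_mul_eq_mul_left Nat.card_pos ((card_mul_relIndex hle).trans (h2.trans (mul_comm _ _))))
  obtain ⟨m, e⟩ := h.dv
  obtain ⟨k, c⟩ := hK.exists_card_eq
  rw [show Nat.card (centralizer {t}) = _ from e, mul_right_comm, c, ← pow_succ'] at this
  rw [c, ← pow_succ']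
  exact ((Nat.coprime_two_left.2 (Nat.not_even_iff_odd.1 fun o => h.nd (e ▸ mul_comm 2 tn ▸ Nat.mul_dvd_mul_left _ o.two_dvd))).pow_left
    _).dvd_of_dvd_mul_right this

theorem anZ {P : Subgroup G} (hP : Sy ⊤ P) {y : G} (hy : ∀ p ∈ P, cg y p = y) : An P y := by
  exact an_of fun e => nd hP (relIndex_top_right P ▸ e.trans (relIndex_dvd_index_of_le fun p m => mem_cent.2 (hy p m)))

/-- `|C_P(x)| ≤ |C_P(y)|` for a conjugate `x` of an extremal `y`, also inside a normal subgroup. -/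
theorem An.card_le {P X Q : Subgroup G} [X.Normal] {x y w : G} (h : An P y) (e : cg x w = y) (hQ : IsPGroup 2 Q)
    (c : ∀ s ∈ Q, cg x s = x) (QX : Q ≤ X) : Nat.card Q ≤ {s | s ∈ P ∧ s ∈ X ∧ cg y s = y}.ncard := by
  obtain ⟨v, a, b⟩ := h _ (hQ.map (cgH w)) (by rintro _ ⟨s, m, rfl⟩; rw [cgH_apply, ← e, ← cg_cg', c s m])
  change (Q : Set G).ncard ≤ _
  refine Set.ncard_le_ncard_of_injOn (cg · (w * v)) (fun s m => ⟨?_, Normal.conj_mem' inferInstance _ (QX m) _, ?_⟩)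
    fun _ _ _ _ => cg_inj.1
  · exact cg_cg s w v ▸ b _ ⟨s, m, cgH_apply _ _⟩
  · rw [← a, ← e, cg_cg x w v, ← cg_cg', c s m]

/-- `E = gen a`, `M = C(E)`.  If `u ∈ M` use `h2`.  Otherwise, if `E` is not Sylow in `M`, then `R = E⟨u⟩` is not Sylow in `M⟨u⟩`:
climb to `w ∈ M` normalising `R`, `w ∉ R`, `w² ∈ R`; `u^w = u e` with `e ∈ M ∩ R = E`, so `u^w = u^{e'}` and the 2-element `w e'⁻¹`
lies in `E` by `h2`.  So `E` is a central Sylow 2-subgroup of `M`. -/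
theorem cent {a : List G} {u : G} (h0 : ∀ x ∈ a, x * x = 1 ∧ ∀ y ∈ a, cg y x = y) (uu : u * u = 1)
    (h1 : ∀ y ∈ a, cg y u ∈ gen a)
    (h2 : ∀ x, (∀ y ∈ a, cg y x = y) → cg u x = u → (∃ n, x ^ 2 ^ n = 1) → x ∈ gen a)
    (h3 : ∀ c < 2 ^ a.length, IsConj u (u * el a c) → ∃ e ∈ gen a, cg u e = u * el a c) : CenL a := by
  refine ⟨h0, fun x c ⟨n, x2⟩ => (ea h0 ?_).1⟩
  let M := centralizer (gen a : Set G)
  have mc : ∀ {c}, c ∈ M ↔ ∀ y ∈ a, cg y c = y := ⟨fun p y m => cg_eq_iff.2 (p y (mem_gen m)), fun p y m => cg_eq_iff.1 (fixg p m)⟩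
  have EM : gen a ≤ M := fun y m => mc.2 fun z n => (ea h0 m).2.2 z (mem_gen n)
  by_cases uM : u ∈ M
  · exact h2 x c (fixg c (h2 u (mc.1 uM) (cg_self u) ⟨1, (sq u).trans uu⟩)) ⟨n, x2⟩
  have uN := norm_gen h1
  have uN' := normalizer_le_normalizer_centralizer' _ uN
  have pE : IsPGroup 2 (gen a) := fun y => ⟨1, Subtype.ext ((sq y.1).trans (ea h0 y.2).2.1)⟩
  have k : ∀ y ∈ gen a ⊔ zpowers u, y ∈ M → y ∈ gen a := fun y p q => (mem_sup_zp (uu ▸ one_mem _) uN p).resolve_right fun r =>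
    uM (inv_mem_iff.1 ((mul_mem_cancel_right q).1 (EM r)))
  have nE : M ⊔ zpowers u ≤ normalizer (gen a : Set G) := sup_le (centralizer_le_normalizer _) (zpowers_le.2 uN)
  obtain ⟨w, m, p⟩ := into (T := gen a ⊔ zpowers u) (H := M ⊔ zpowers u) (not_dvd_relIndex_of_maximal (sup_le_sup_right EM _)
    (pg_sup' pE (uu ▸ one_mem _) uN) fun T pT l b => by_contra fun n => by
      obtain ⟨w, ⟨wT, wN⟩, wR⟩ := SetLike.exists_of_lt (lt_inf_normalizer_of_lt pT (lt_of_le_not_ge l n))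
      have uR : u ∈ gen a ⊔ zpowers u := mem_sup_right (mem_zpowers u)
      obtain ⟨m, mM, mT, mN, mR⟩ : ∃ m ∈ M, m ∈ T ∧ m ∈ normalizer ((gen a ⊔ zpowers u : Subgroup G) : Set G) ∧ m ∉ gen a ⊔ zpowers u :=
        (mem_sup_zp (uu ▸ one_mem _) uN' (b wT)).elim (fun p => ⟨w, p, wT, wN, wR⟩) fun p => ⟨_, p, mul_mem (inv_mem (l uR)) wT,
          mul_mem (inv_mem (le_normalizer uR)) wN, fun q => wR ((mul_mem_cancel_left (inv_mem uR)).1 q)⟩
      obtain ⟨c, lt, e⟩ := (ea h0 ((mem_sup_zp (uu ▸ one_mem _) uN (cg_mem_norm uR mN)).resolve_left fun q =>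
        uM (EM (mem_of_cg_mem q (centralizer_le_normalizer _ mM))))).1
      rw [inv_mul_eq_iff_eq_mul] at e
      obtain ⟨y, p, q⟩ := h3 c lt (e ▸ isConj_cg u m)
      exact mR (mem_sup_left ((mul_mem_cancel_right (inv_mem p)).1 (h2 _ (mc.1 (mul_mem mM (inv_mem (EM p))))
        (by rw [← cg_cg, e, ← q, cg_cg_inv]) (pow_of_pg pT (mul_mem mT (inv_mem (l (mem_sup_left p)))))))))
    (pg_zpowers x2) (zpowers_le.2 (mem_sup_left (mc.2 c)))
  exact mem_of_cg_mem (k _ (p x (mem_zpowers x)) (cg_mem_norm (mc.2 c) (normalizer_le_normalizer_centralizer' _ (nE m)))) (nE m)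

/-- `P ∩ X` is a Sylow 2-subgroup of `X`. -/
theorem Sy.inf {X P Q : Subgroup G} {t : G} (gl : Gl X t) (tX : t ∉ X) (hP : Sy ⊤ P) (QX : Q ≤ X) (QP : Q ≤ P)
    (h2 : Nat.card P = 2 * Nat.card Q) : Sy X Q := by
  refine ⟨hP.pg.to_le QP, QX, fun e => hP.mx ?_⟩
  rw [card_top, ← X.index_mul_card, idx gl tX, h2]
  exact Nat.mul_dvd_mul_left _ e

end Cfsg.Lib.D8
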