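import Cfsg.Agent.Lib.D8.Loc

/-! (docs/D8.md, tower; helper29, helper3): from the frame `Fr` to the element form `Fm`, and the symmetries of `Fm`.

`Fr.fm`: t = el 4, f = el 8 (or f t if `t ∉ X`, `f ∉ X`), z = el 16, v1 = el 2, v2 = el 1, d = F.d (or d t); tn = 32 if
F.d = 1, else 64 (`d² = t` forces `t ∈ X`; X has index ≤ 2).  T = gen (d :: gs), A₁ = ⟨t,f,z,v1⟩, A₂ = ⟨t,fz,z,v2⟩, V_i = ⟨z,v_i⟩.
* z1: if z = t^g then T and T^{g⁻¹} are Sylow in C(t), so z = t^h with h ∈ N(T); but z ∈ T', t ∉ T' (T/D abelian).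
* `Co.selfc`: a 2-element normalising A₁ and fixing t, z, v1 lies in A₁ (conjugate into T by `into`).
* rg1: A₁^w = A_j, `fus` puts z^w, v1^w in V_j and f^w in f V_j.  j = 1: ρ^w ρ^{∓1} is trivial on t, V₁, so on f (`Co.tv`); hence
  ρ^w fixes f⁻¹ f^w ∈ V₁.  j = 2, tn = 64: apply this to w d.  j = 2, tn = 32: T₀ and T₀^w are Sylow in N(V₂) ∩ C(t), so some element
  normalises T₀ and swaps v1, v2; an odd power of it lies in T₀.
`Fm.sym`: through `Fn`, the fields of `Fm` for an abstract `T`. -/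

set_option autoImplicit false
set_option linter.unusedSectionVars false

namespace Cfsg.Lib.D8

open Cfsg.Lib.H33 Subgroup Cfsg.Lib.Transfer Lc

variable {G : Type*} [Group G] [Finite G]

set_option quotPrecheck false in
local notation "dk" => by clear * -; decide +kernel +revert

namespace FA

theorem cenL_gen {a a' : List G} (h : CenL a) (l : ∀ x ∈ a', x ∈ gen a) (l' : ∀ x ∈ a, x ∈ gen a') : CenL a' :=
  have h0 : ∀ x ∈ a', x * x = 1 ∧ ∀ y ∈ a', cg y x = y := fun x m => ⟨(ea h.1 (l x m)).2.1, fun y n => (ea h.1 (l x m)).2.2 y (l y n)⟩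
  ⟨h0, fun x c n => let ⟨k, _, e⟩ := h.2 x (fun y m => fixg c (l' y m)) n; (ea h0 (e ▸ gen_le.2 l' (el_mem a k))).1⟩

/-- One half of the frame. -/
structure Hf (b : Prop) (T : Subgroup G) (t f z v1 v2 : G) : Prop where
  cen : CenL [t, f, z, v1]
  rg : ∀ w, cg t w = t → cg f w ∈ T → cg z w ∈ T → cg v1 w ∈ T → (cg f w = f ∧ InV z v1 (cg z w) ∧ InV z v1 (cg v1 w)) ∨
    (b ∧ cg f w = f * z ∧ InV z v2 (cg z w) ∧ InV z v2 (cg v1 w))
  rho : ∃ ρ, cg t ρ = t ∧ cg f ρ = f ∧ cg z ρ = v1 ∧ cg v1 ρ = v1 * z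

theorem Hf.mulT {b : Prop} {T : Subgroup G} {t f z v1 v2 : G} (h : Hf b T t f z v1 v2) (m : t ∈ T) : Hf b T t (f * t) z v1 v2 := by
  have c : z * t = t * z := cg_eq_iff.1 ((h.cen.1 t (by simp)).2 z (by simp))
  refine ⟨cenL_gen h.cen ?_ ?_, fun w a p q r => ?_, let ⟨ρ, a, p, q⟩ := h.rho; ⟨ρ, a, by rw [cg_mul, a, p], q⟩⟩
  · simp only [List.forall_mem_cons]
    exact ⟨mem_gen (by simp), mul_mem (mem_gen (by simp)) (mem_gen (by simp)), mem_gen (by simp), mem_gen (by simp), nofun⟩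
  · simp only [List.forall_mem_cons]
    exact ⟨mem_gen (by simp), (mul_mem_cancel_right (x := t) (mem_gen (by simp))).1 (mem_gen (by simp)), mem_gen (by simp),
      mem_gen (by simp), nofun⟩
  · rw [cg_mul, a] at p ⊢
    exact (h.rg w a ((mul_mem_cancel_right m).1 p) q r).imp (.imp_left fun e => by rw [e])
      (.imp_right (.imp_left fun e => by rw [e, mul_assoc, c, mul_assoc]))

/-- `Fm` for an abstract `T`. -/
structure Fn (T : Subgroup G) (tn : ℕ) (t f z v1 v2 : G) : Prop where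
  pg : PG [v2, v1, f, z, t] DT0 32
  hn : tn = 32 ∨ tn = 64
  le : gen [v2, v1, f, z, t] ≤ T
  card : Nat.card T = tn
  z1 : ¬ IsConj t z
  dv : tn ∣ Nat.card (Ct t)
  nd : ¬ 2 * tn ∣ Nat.card (Ct t)
  big : ∀ P : Subgroup G, IsPGroup 2 P → (∀ y ∈ P, cg t y = t) → Nat.card P ≤ tn
  into : An T t
  mx : ∀ P : Subgroup G, IsPGroup 2 P → T ≤ P → ∀ x ∈ P, cg t x = t → x ∈ T
  fus : ∀ w, cg t w = t → ∀ x ∈ T, cg x w ∈ T → x⁻¹ * cg x w ∈ gen [v2, v1, z]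
  h1 : Hf (tn = 64) T t f z v1 v2
  h2 : Hf (tn = 64) T t (f * z) z v2 v1

variable {T : Subgroup G} {tn : ℕ} {t f z v1 v2 d : G}

theorem fn (h : Fm tn t f z v1 v2 d) : Fn (gen (tg tn t f z v1 v2 d)) tn t f z v1 v2 :=
  have z2 := (h.cen1.1 z (by simp)).1
  ⟨h.pg, h.hn, by unfold tg; split_ifs; exacts [gen_tail _ _, le_rfl], h.card, h.z1, h.dv, h.nd, h.big, h.into, h.mx,
    fun w a x p q => let ⟨c, _, e⟩ := h.fus w a x p q; by rw [e, inv_mul_cancel_left]; exact el_mem _ c,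
    ⟨h.cen1, h.rg1, h.rho1⟩, ⟨h.cen2, by simpa only [mul_assoc, z2, mul_one] using h.rg2, h.rho2⟩⟩

namespace Fn

variable (h : Fn T tn t f z v1 v2)
include h

theorem z2 : z * z = 1 := (h.h1.cen.1 z (by simp)).1
theorem mem {x : G} (m : x ∈ [v2, v1, f, z, t] := by simp) : x ∈ T := h.le (mem_gen m)

theorem swap : Fn T tn t (f * z) z v2 v1 :=
  ⟨by simpa [el] using h.pg.sub (cs := [2, 1, 12, 8, 16]) (D' := DT0) (N' := 32) dk rfl, h.hn,
    gen_le.2 (by simpa using ⟨h.mem, h.mem, mul_mem h.mem h.mem, h.mem, h.mem⟩), h.card, h.z1, h.dv, h.nd, h.big, h.into, h.mx,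
    fun w a x p q => gen_le.2 (fun y m => mem_gen (by simp at m ⊢; tauto)) (h.fus w a x p q), h.h2,
    by simpa only [mul_assoc, h.z2, mul_one] using h.h1⟩

theorem mulT : Fn T tn t (f * t) z v1 v2 :=
  have c : z * t = t * z := cg_eq_iff.1 ((h.h1.cen.1 t (by simp)).2 z (by simp))
  ⟨by simpa [el] using h.pg.sub (cs := [1, 2, 20, 8, 16]) (D' := DT0) (N' := 32) dk rfl, h.hn,
    gen_le.2 (by simpa using ⟨h.mem, h.mem, mul_mem h.mem h.mem, h.mem, h.mem⟩), h.card, h.z1, h.dv, h.nd, h.big, h.into, h.mx,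
    h.fus, h.h1.mulT h.mem, by simpa only [mul_assoc, c] using h.h2.mulT h.mem⟩

theorem fm (hd : tn = 64 → d ∈ T ∧ d ∉ gen [v2, v1, f, z, t]) : Fm tn t f z v1 v2 d ∧ gen (tg tn t f z v1 v2 d) = T := by
  have nf : ∀ x ∈ T, ∃ c < tn, x = el (tg tn t f z v1 v2 d) c := fun x m => by
    rcases h.hn with rfl | rfl
    · exact h.pg.ex ((eq_of_le_of_card_ge h.le (h.card.trans h.pg.card.symm).le).ge m)
    by_cases p : x ∈ gen [v2, v1, f, z, t]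
    · obtain ⟨c, l, rfl⟩ := h.pg.ex p
      exact ⟨2 * c, by omega, (el_even _ _ _).symm⟩
    have i : ((gen [v2, v1, f, z, t]).subgroupOf T).index = 2 := by
      have := card_mul_relIndex h.le
      rw [h.card, h.pg.card, relIndex] at this
      omega
    obtain ⟨c, l, e⟩ := h.pg.ex (g := d⁻¹ * x) ((mul_mem_iff_of_index_two i (a := ⟨d, (hd rfl).1⟩⁻¹) (b := ⟨x, m⟩)).2
      (iff_of_false (fun q => (hd rfl).2 (inv_mem_iff.1 q)) p))
    exact ⟨2 * c + 1, by omega, (eq_mul_of_inv_mul_eq e).trans (el_odd _ _ _).symm⟩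
  have E : gen (tg tn t f z v1 v2 d) = T := le_antisymm (by
    unfold tg; split_ifs with e
    exacts [gen_le.2 (List.forall_mem_cons.2 ⟨(hd e).1, gen_le.1 h.le⟩), h.le]) fun x m => let ⟨_, _, e⟩ := nf x m; e ▸ el_mem _ _
  have p3 : PG [v2, v1, z] [(0, [3, 2]), (0, [1]), (0, [])] 8 := by
    simpa [el] using h.pg.sub (cs := [1, 2, 8]) (D' := [(0, [3, 2]), (0, [1]), (0, [])]) (N' := 8) dk rfl
  subst E
  exact ⟨⟨h.pg, h.hn, h.card, h.z1, h.dv, h.nd, h.big, h.into, nf, h.mx, fun w a x p q => let ⟨c, l, e⟩ := p3.ex (h.fus w a x p q);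
    ⟨c, l, eq_mul_of_inv_mul_eq e⟩, h.h1.cen, h.h2.cen, h.h1.rg, by simpa only [mul_assoc, h.z2, mul_one] using h.h2.rg,
    h.h1.rho, h.h2.rho⟩, rfl⟩

end Fn

/-- The part of `Fr` which is used, for an abstract `T = T₀` or `T₀⟨d⟩`. -/
structure Co {gs : List G} (pg : PG gs D0 32) (T : Subgroup G) (b : Prop) (d : G) : Prop where
  pT : IsPGroup 2 T
  le : gen gs ≤ T
  ct : ∀ x ∈ T, Mp pg pg x 4 4
  dec : ∀ x ∈ T, x ∈ gen gs ∨ (b ∧ d⁻¹ * x ∈ gen gs)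
  act : b → d ∈ T ∧ Mp pg pg d 1 2 ∧ Mp pg pg d 2 1 ∧ Mp pg pg d 8 24
  into : An T (el gs 4)
  fus : ∀ w, Mp pg pg w 4 4 → ∀ x ∈ T, cg x w ∈ T → x⁻¹ * cg x w ∈ MS gs 19

/-- The images of `z, v₁, f`. -/
def Im (m i j k : ℕ) : Prop := IM m i ∧ IM m j ∧ i ≠ 0 ∧ j ≠ 0 ∧ i ≠ j ∧ IM m (k ^^^ 8)

instance decIm (m i j k : ℕ) : Decidable (Im m i j k) := by unfold Im; infer_instance

namespace Co

variable {gs : List G} {pg : PG gs D0 32} {b : Prop} {w g s ρ : G} {i j k : ℕ} (h : Co pg T b d)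
include h

theorem mem (x : ℕ) : el gs x ∈ T := h.le (el_mem _ _)

theorem dm (hb : b) {x : ℕ} (l : x < 32) : Mp pg pg d x (hm (mul D0) [2, 1, 4, 24, 16] x) :=
  let ⟨m, p, q, r⟩ := h.act hb
  (Mp.hom (xs := [1, 2, 4, 8, 16]) (.cons p (.cons q (.cons (h.ct d m) (.cons r (.cons ((q.ck p).cast 16 16) .nil))))) x).l x
    (by clear * - l; decide +kernel +revert)

theorem big (P : Subgroup G) (p : IsPGroup 2 P) (c : ∀ y ∈ P, cg (el gs 4) y = el gs 4) : Nat.card P ≤ Nat.card T :=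
  let ⟨w, _, e⟩ := h.into P p c
  Nat.card_le_card_of_injective (fun x : P => (⟨cg x w, e x x.2⟩ : T)) fun _ _ q => Subtype.ext (cg_inj.1 (congrArg Subtype.val q))

theorem mx (P : Subgroup G) (p : IsPGroup 2 P) (l : T ≤ P) (x : G) (m : x ∈ P) (c : cg (el gs 4) x = el gs 4) : x ∈ T :=
  (eq_of_le_of_card_ge (le_inf l fun y n => mem_cent.2 (h.ct y n)) (h.big (P ⊓ Ct _) (p.to_le inf_le_left)
    fun _ n => mem_cent.1 n.2)).ge ⟨m, mem_cent.2 c⟩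

theorem syl {H : Subgroup G} (l : T ≤ H) (c : H ≤ Ct (el gs 4)) : ¬ 2 ∣ T.relIndex H :=
  not_dvd_relIndex_of_maximal l h.pT fun Q p a e x m => h.mx Q p a x m (mem_cent.1 (c (e m)))

theorem z1 : ¬ IsConj (el gs 4) (el gs 16) := fun c => by
  obtain ⟨g, e⟩ := exists_cg c
  have z0 : ∀ x ∈ gen gs, cg (el gs 16) x = el gs 16 := fun x m => by
    obtain ⟨c, l, rfl⟩ := pg.ex m
    exact Mp.sf pg c 16 16 (by clear * - l; decide +kernel +revert)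
  obtain ⟨w, a, p⟩ := h.into _ (h.pT.map (cgH g⁻¹)) (by
    rintro _ ⟨x, m, rfl⟩
    rw [cgH_apply, ← cg_symm e, ← cg_cg', (h.dec x m).elim (z0 x) fun q => by
      simpa using cg_fix_mul ((h.dm q.1 (x := 16) dk).r 16).e (z0 _ q.2)])
  have q := fun c => p _ ⟨_, h.mem c, cgH_apply _ _⟩
  have := h.fus _ (h.ct _ (q 1)) _ (q 2) (cg_mem (q 2) (q 1))
  rw [← cm, ← cg_cm, ← cg_cm, pg.cm, (pg.eq _ 16).2 dk, cg_symm e, a, pg.mem_ms dk] at this
  exact absurd this dk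

theorem img (a : Mp pg pg w 4 4) (p : cg (el gs 8) w ∈ T) (q : cg (el gs 16) w ∈ T) (r : cg (el gs 2) w ∈ T) :
    ∃ i < 32, ∃ j < 32, ∃ k < 32, Mp pg pg w 16 i ∧ Mp pg pg w 2 j ∧ Mp pg pg w 8 k ∧ (Im 18 i j k ∨ Im 17 i j k) := by
  have e : ∀ x, cg (el gs x) w ∈ T → ∃ y < 32, IM 19 y ∧ Mp pg pg w x (mul D0 x y) := fun x m =>
    let ⟨y, l, u, v⟩ := pg.ex_ms dk (h.fus w a _ (h.mem x) m); ⟨y, l, u, (eq_mul_of_inv_mul_eq v).trans (pg.mul _ _)⟩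
  obtain ⟨i, li, mi, I⟩ := e _ q
  obtain ⟨j, lj, mj, J⟩ := e _ r
  obtain ⟨k, lk, mk, K⟩ := e _ p
  have l := fun x => Nat.mod_lt x (show 0 < 32 by norm_num)
  refine ⟨_, l _, _, l _, _, l _, I.r _ (Nat.mod_mod _ _).symm, J.r _ (Nat.mod_mod _ _).symm, K.r _ (Nat.mod_mod _ _).symm, ?_⟩
  have h1 := I.sq; have h2 := J.sq; have h3 := K.sq; have h4 := I.co J; have h5 := I.co K; have h6 := J.co K
  have h7 := I.ne .zero; have h8 := J.ne .zero; have h9 := I.ne J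
  clear * - li mi lj mj lk mk h1 h2 h3 h4 h5 h6 h7 h8 h9
  revert k; revert j; revert i; decide +kernel

theorem selfc {n : ℕ} (s2 : s ^ 2 ^ n = 1) (N : s ∈ normalizer (MS gs 30 : Set G)) (a : Mp pg pg s 4 4) (c : Mp pg pg s 16 16)
    (e : Mp pg pg s 2 2) : ∃ c < 16, s = el [el gs 4, el gs 8, el gs 16, el gs 2] c := by
  obtain ⟨w, u, p⟩ := h.into _ (pg_sup (pg.pgroup.to_le (ms_le gs 30)) s2 N) fun y m => mem_cent.1 (sup_le
    ((ms_le _ _).trans fun y m => mem_cent.2 (h.ct y (h.le m))) (zpowers_le.2 (mem_cent.2 a)) m)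
  have q : ∀ x, IM 30 x → cg (el gs x) w ∈ T := fun x m => p _ (mem_sup_left (el_mem_ms m))
  obtain ⟨i, li, j, lj, k, lk, I, J, K, P⟩ := h.img u (q 8 dk) (q 16 dk) (q 2 dk)
  have c' := c.cjg I I
  have e' := e.cjg J J
  rcases h.dec _ (p s (mem_sup_right (mem_zpowers s))) with m | ⟨hb, m⟩ <;> obtain ⟨y, ly, E⟩ := pg.ex m
  · have h1 := c'.of_eq E
    have h2 := e'.of_eq E
    obtain ⟨c, l, r⟩ : ∃ c < 16, EQ 32 y (hm (mul D0) [4, k, i, j] c) := by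
      clear * - li lj lk ly P h1 h2; revert y; revert k; revert j; revert i; decide +kernel
    refine ⟨c, l, (cg_inj (g := w)).1 ?_⟩
    rw [← el_cg, E, (pg.eq _ _).2 r, ← pg.el_map]
    simp only [List.map, u, I.e, J.e, K.e]
  · rw [eq_mul_of_inv_mul_eq E] at c' e'
    have h1 := ((h.dm hb li).tr y).eq c' rfl
    have h2 := ((h.dm hb lj).tr y).eq e' rfl
    exact absurd h2 (by clear * - li lj lk ly P h1; revert y; revert k; revert j; revert i; decide +kernel)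

theorem tv (N : g ∈ normalizer (MS gs 30 : Set G)) (a : Mp pg pg g 4 4) (c : Mp pg pg g 16 16) (e : Mp pg pg g 2 2) :
    Mp pg pg g 8 8 := by
  obtain ⟨y, l, m, Y⟩ := Mp.exm (h := pg) dk N 8
  have H := fun x => Mp.hom (.cons a (.cons c (.cons e .nil))) x
  obtain ⟨x, -, r | r⟩ : ∃ x < 8, EQ 32 (hm (mul D0) [4, 16, 2] x) y ∨ (EQ 32 (mul D0 8 (hm (mul D0) [4, 16, 2] x)) y ∧
    EQ 32 (mul D0 y (hm (mul D0) [4, 16, 2] x)) 8) := by clear * - l m; decide +kernel +revert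
  · exact Y.r _ ((Y.iff (H x)).2 r.symm |>.trans r).symm
  obtain ⟨o, n, od, s2⟩ := exists_odd_pow g
  obtain ⟨x', l', E⟩ := h.selfc s2 (pow_mem N o) (a.pow o) (c.pow o) (e.pow o)
  have := (Y.odd ((Y.mul (H x)).cast _ _ r) od).of_eq (E.trans (pg.el_map [4, 8, 16, 2] x'))
  exact Y.r _ (this.symm.trans (by clear * - l'; decide +kernel +revert))

omit h in
theorem nA (a : Mp pg pg w 4 4) (I : Mp pg pg w 16 i) (J : Mp pg pg w 2 j) (K : Mp pg pg w 8 k) (li : i < 32) (lj : j < 32)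
    (lk : k < 32) (P : Im 18 i j k) : w ∈ normalizer (MS gs 30 : Set G) := by
  obtain ⟨p, q, r⟩ : IM 30 i ∧ IM 30 j ∧ IM 30 k := by clear * - li lj lk P; revert k; revert j; revert i; decide +kernel
  refine pg.nm_ms fun n l m => ?_
  change n < 5 at l
  interval_cases n
  exacts [absurd m dk, J.mem q, a.mem, K.mem r, I.mem p]

theorem r1 (R : Mp pg pg ρ 4 4 ∧ Mp pg pg ρ 8 8 ∧ Mp pg pg ρ 16 2 ∧ Mp pg pg ρ 2 18) (a : Mp pg pg w 4 4) (I : Mp pg pg w 16 i)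
    (J : Mp pg pg w 2 j) (K : Mp pg pg w 8 k) (li : i < 32) (lj : j < 32) (lk : k < 32) (P : Im 18 i j k) : k = 8 := by
  obtain ⟨R1, R2, R3, R4⟩ := R
  have N := nA R1 R3 R4 R2 dk dk dk dk
  have N' := cg_mem N (nA a I J K li lj lk P)
  have H := fun x => Mp.hom (.cons (R3.cjg I J) (.cons (R4.cjg J ((J.mul I).l 18)) .nil)) x
  obtain ⟨x, -, y, -, u, -, e1, e2, e3, e4, e5⟩ : ∃ x < 4, ∃ y < 4, ∃ u < 4, EQ 32 (hm (mul D0) [i, j] x) 16 ∧
      EQ 32 (hm (mul D0) [i, j] y) 2 ∧ EQ 32 (hm (mul D0) [i, j] u) (mul D0 8 k) ∧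
      (EQ 32 (mul D0 8 k) (hm (mul D0) [j, mul D0 j i] u) → k = 8) ∧
      (EQ 32 (hm (mul D0) [j, mul D0 j i] x) 2 ∧ EQ 32 (hm (mul D0) [j, mul D0 j i] y) 18 ∨
        EQ 32 (hm (mul D0) [j, mul D0 j i] x) 18 ∧ EQ 32 (hm (mul D0) [j, mul D0 j i] y) 16) := by
    clear * - li lj lk P; revert k; revert j; revert i; decide +kernel
  refine e4 (((?_ : Mp pg pg (cg ρ w) 8 8).mul (R2.cjg K K)).eq (H u) e3.symm)
  rcases e5 with ⟨p, q⟩ | ⟨p, q⟩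
  · simpa using (h.tv (mul_mem N' (inv_mem N)) ((R1.cjg a a).trans R1.symm) (((H x).cast _ _ ⟨e1, p⟩).trans R3.symm)
      (((H y).cast _ _ ⟨e2, q⟩).trans R4.symm)).trans R2
  · simpa using (h.tv (mul_mem N' N) ((R1.cjg a a).trans R1) (((H x).cast _ _ ⟨e1, p⟩).trans ((R4.mul R3).cast _ _))
      (((H y).cast _ _ ⟨e2, q⟩).trans R3)).trans R2.symm

theorem r2 (a : Mp pg pg w 4 4) (I : Mp pg pg w 16 i) (J : Mp pg pg w 2 j) (li : i < 32) (lj : j < 32) (lk : k < 32)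
    (P : Im 17 i j k) : b := by_contra fun hb => by
  have E : T = gen gs := le_antisymm (fun x m => (h.dec x m).resolve_right fun q => hb q.1) h.le
  subst E
  have n : ∀ m, (∀ y < 32, ∀ i < 5, m.testBit i = true → IM m (cj D0 (2 ^ i) y % 32)) → gen gs ≤ normalizer (MS gs m : Set G) :=
    fun m c x p => let ⟨y, l, e⟩ := pg.ex p; e ▸ pg.nm_el (c y l)
  have V : ∀ x ∈ MS gs 17, cg x w⁻¹ ∈ MS gs 18 := fun x m => by
    obtain ⟨x, l, mx, rfl⟩ := pg.ex_ms dk m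
    obtain ⟨c, lc, e⟩ : ∃ c < 4, EQ 32 (hm (mul D0) [i, j] c) x := by
      clear * - li lj lk P l mx; revert x; revert k; revert j; revert i; decide +kernel
    rw [((Mp.hom (.cons I (.cons J .nil)) c).r _ e).symm.e, pg.mem_ms dk]
    clear * - lc; decide +kernel +revert
  have V' : ∀ x ∈ MS gs 18, cg x w ∈ MS gs 17 := fun x m => cgH_apply w x ▸ (ms_le_iff pg (H := (MS gs 17).comap (cgH w))).2
    (fun n l m => by
      change n < 5 at l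
      rw [mem_comap, cgH_apply]
      interval_cases n
      exacts [absurd m dk, J.mem P.2.1, absurd m dk, absurd m dk, I.mem P.1]) m
  obtain ⟨u, ⟨uN, uC⟩, p⟩ := Lc.into (h.syl (le_inf (n 17 dk) fun x m => mem_cent.2 (h.ct x m)) inf_le_right) (h.pT.map (cgH w)) (by
    rintro _ ⟨x, m, rfl⟩
    rw [cgH_apply]
    exact ⟨mem_norm_of_cg fun y q => by rw [← cg_inv_cg y w, ← cg_cg']; exact V' _ (cg_mem_norm (V y q) (n 18 dk m)),
      mem_cent.2 ((h.ct x m).cjg a a)⟩)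
  have q : ∀ x ∈ gen gs, cg x (w * u) ∈ gen gs := fun x m => cg_cg x w u ▸ p _ ⟨x, m, cgH_apply _ _⟩
  have a' : Mp pg pg (w * u) 4 4 := a.trans (mem_cent.1 uC)
  obtain ⟨x, lx, mx, X⟩ := pg.ex_ms dk (cg_cg _ w u ▸ cg_mem_norm (V' _ (el_mem_ms (x := 2) dk)) uN)
  obtain ⟨y, ly, my, Y⟩ := pg.ex_ms dk (h.fus _ a' _ (h.mem 1) (q _ (h.mem 1)))
  have X : Mp pg pg (w * u) 2 x := X
  have Y : Mp pg pg (w * u) 1 (mul D0 1 y) := (eq_mul_of_inv_mul_eq Y).trans (pg.mul _ _)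
  have h1 := Y.sq
  have h2 := (X.ck Y).ne .zero
  obtain ⟨c, -, r1, r2⟩ : ∃ c < 32, EQ 32 (cj D0 x c) 1 ∧ EQ 32 (cj D0 (mul D0 1 y) c) 2 := by
    clear * - lx mx ly my h1 h2; revert y; revert x; decide +kernel
  obtain ⟨o, n, od, s2⟩ := exists_odd_pow (w * u * el gs c)
  obtain ⟨v, lv, e⟩ := pg.ex (h.mx _ (pg_sup h.pT s2 (pow_mem (mul_mem (mem_norm_of_cg q) (le_normalizer (h.mem c))) o)) le_sup_left _
    (mem_sup_right (mem_zpowers _)) ((a'.trans (h.ct _ (h.mem c))).pow o))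
  exact absurd ((((X.tr c).r _ r1).odd ((Y.tr c).r _ r2) od).of_eq e) (by clear * - lv; decide +kernel +revert)

theorem hf (R : Mp pg pg ρ 4 4 ∧ Mp pg pg ρ 8 8 ∧ Mp pg pg ρ 16 2 ∧ Mp pg pg ρ 2 18) :
    Hf b T (el gs 4) (el gs 8) (el gs 16) (el gs 2) (el gs 1) := by
  refine ⟨⟨?_, fun x c ⟨n, e⟩ => h.selfc e (nA (pg := pg) (c _ (by simp)) (c _ (by simp)) (c _ (by simp)) (c _ (by simp)) dk dk dk dk)
    (c _ (by simp)) (c _ (by simp)) (c _ (by simp))⟩, fun w a p q r => ?_,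
    ρ, R.1, R.2.1, R.2.2.1, R.2.2.2.e.trans (by rw [pg.mul, pg.eq]; exact dk)⟩
  · simp only [List.forall_mem_cons, pg.mul, pg.cg, pg.one, pg.inj, List.not_mem_nil, false_imp_iff, implies_true]
    exact dk
  obtain ⟨i, li, j, lj, k, lk, I, J, K, P | P⟩ := h.img a p q r
  · obtain rfl := h.r1 R a I J K li lj lk P
    refine .inl ⟨K, ?_⟩
    simp only [I.e, J.e, InV, pg.mul, pg.inj]
    clear * - li lj P; revert j; revert i; decide +kernel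
  have hb := h.r2 a I J li lj lk P
  have l := fun x => Nat.mod_lt x (show 0 < 32 by norm_num)
  have := h.r1 R (Mp.trans a (h.ct d (h.act hb).1)) ((I.trans (h.dm hb li)).r _ (Nat.mod_mod _ _).symm)
    ((J.trans (h.dm hb lj)).r _ (Nat.mod_mod _ _).symm) ((K.trans (h.dm hb lk)).r _ (Nat.mod_mod _ _).symm) (l _) (l _) (l _)
    (by clear * - li lj lk P; revert k; revert j; revert i; decide +kernel)
  refine .inr ⟨hb, ?_⟩
  simp only [I.e, J.e, K.e, InV, pg.mul, pg.inj]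
  clear * - li lj lk P this; revert k; revert j; revert i; decide +kernel

theorem hf' (R : Mp pg pg ρ 4 4 ∧ Mp pg pg ρ 24 24 ∧ Mp pg pg ρ 16 1 ∧ Mp pg pg ρ 1 17) :
    Hf b T (el gs 4) (el gs 8 * el gs 16) (el gs 16) (el gs 1) (el gs 2) := by
  obtain ⟨gs', pg', e⟩ := pg.sub' [2, 1, 4, 24, 16] D0 32 dk
  have E : ∀ x y, EQ 32 (hm (mul D0) [2, 1, 4, 24, 16] x) y → el gs' x = el gs y := fun x y c => (e x).trans ((pg.eq _ _).2 c)
  have e4 := E 4 4 dk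
  have M : ∀ {w} x y {x' y'}, Mp pg pg w x' y' → EQ 32 (hm (mul D0) [2, 1, 4, 24, 16] x) x' ∧
      EQ 32 (hm (mul D0) [2, 1, 4, 24, 16] y) y' → Mp pg' pg' w x y := fun x y _ _ a c => by rw [Mp, E _ _ c.1, E _ _ c.2, a]
  have g : gen gs' = gen gs := eq_of_le_of_card_ge (fun x m => let ⟨c, _, p⟩ := pg'.ex m; p ▸ e c ▸ el_mem _ _)
    (pg.card.trans pg'.card.symm).le
  have := hf (pg := pg') (T := T) (b := b) (d := d) ⟨h.pT, g ▸ h.le, fun x m => M 4 4 (h.ct x m) dk, g ▸ h.dec, fun hb =>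
    let ⟨m, p, q, _⟩ := h.act hb; ⟨m, M 1 2 q dk, M 2 1 p dk, M 8 24 (h.dm hb (x := 24) dk) dk⟩, e4 ▸ h.into, fun w a x p q =>
      (ms_le_iff pg).2 (fun n l m => by
        change n < 5 at l
        interval_cases n
        exacts [E 2 (2 ^ 0) dk ▸ el_mem_ms dk, E 1 (2 ^ 1) dk ▸ el_mem_ms dk, absurd m dk, absurd m dk, E 16 (2 ^ 4) dk ▸ el_mem_ms dk])
      (h.fus w (by rwa [Mp, e4] at a) x p q)⟩ ⟨M 4 4 R.1 dk, M 8 8 R.2.1 dk, M 16 2 R.2.2.1 dk, M 2 18 R.2.2.2 dk⟩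
  rwa [e4, E 8 (mul D0 8 16) dk, E 16 16 dk, E 2 1 dk, E 1 2 dk, ← pg.mul] at this

end Co

theorem Co.fn {gs : List G} {pg : PG gs D0 32} {ρ σ : G} (h : Co pg T (tn = 64) d) (hn : tn = 32 ∨ tn = 64) (c : Nat.card T = tn)
    (R : Mp pg pg ρ 4 4 ∧ Mp pg pg ρ 8 8 ∧ Mp pg pg ρ 16 2 ∧ Mp pg pg ρ 2 18)
    (S : Mp pg pg σ 4 4 ∧ Mp pg pg σ 24 24 ∧ Mp pg pg σ 16 1 ∧ Mp pg pg σ 1 17) :
    Fn T tn (el gs 4) (el gs 8) (el gs 16) (el gs 2) (el gs 1) :=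
  have l : T ≤ Ct (el gs 4) := fun x m => mem_cent.2 (h.ct x m)
  ⟨pg.sub (cs := [1, 2, 8, 16, 4]) dk rfl, hn, gen_le.2 (by simp [h.mem]), c, h.z1, c ▸ card_dvd_of_le l,
    fun e => h.syl l le_rfl (Nat.dvd_of_mul_dvd_mul_left Nat.card_pos (by rwa [card_mul_relIndex l, c, mul_comm])), fun P p q => c ▸ h.big P p q, h.into, h.mx,
    fun w a x p q => (ms_le_iff pg).2 (fun n l m => by
      change n < 5 at l
      interval_cases n
      exacts [mem_gen (by simp), mem_gen (by simp), absurd m dk, absurd m dk, mem_gen (by simp)]) (h.fus w a x p q), h.hf R, h.hf' S⟩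

end FA

open FA

theorem Fr.fm (F : Fr G) : ∃ f z v1 v2 d tn, Gl F.X (el F.gs 4) ∧ Fm tn (el F.gs 4) f z v1 v2 d ∧ (tn = 64 → F.d ≠ 1) ∧
    z ∈ F.X ∧ v1 ∈ F.X ∧ v2 ∈ F.X ∧ (el F.gs 4 ∉ F.X → f ∈ F.X ∧ d ∈ F.X) ∧
    (tn = 32 ∨ (tn = 64 ∧ (PG [d, v2, v1, f, z, el F.gs 4] DT1 64 ∨
      (el F.gs 4 ∈ F.X ∧ PG [d, v2, v1, f, z, el F.gs 4] DT2 64)))) := by
  have pg := F.pg
  have t2 : el F.gs 4 * el F.gs 4 = 1 := by rw [pg.mul, pg.one]; exact dk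
  have gl : Gl F.X (el F.gs 4) := ⟨F.nX, F.sim, F.nab, F.rk, F.top, t2⟩
  have zX : el F.gs 16 ∈ F.X := (pg.eq _ _).2 (show EQ 32 (ck D0 2 1) 16 from dk) ▸ pg.cm 2 1 ▸ cm_mem F.v1X F.v2X
  have ch : ∀ x, ∃ y, (y = x ∨ y = x * el F.gs 4) ∧ (el F.gs 4 ∉ F.X → y ∈ F.X) := fun x => by
    by_cases p : x ∈ F.X
    exacts [⟨x, .inl rfl, fun _ => p⟩, ⟨_, .inr rfl, fun q => (mul_mem_iff_of_index_two (idx gl q)).2 (iff_of_false p q)⟩]
  obtain ⟨ρ, R⟩ := F.rho1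
  obtain ⟨σ, S⟩ := F.rho2
  obtain ⟨f, hf, fX⟩ := ch (el F.gs 8)
  have K : ∀ {T tn}, Fn T tn (el F.gs 4) (el F.gs 8) (el F.gs 16) (el F.gs 2) (el F.gs 1) →
      Fn T tn (el F.gs 4) f (el F.gs 16) (el F.gs 2) (el F.gs 1) := fun n => hf.elim (· ▸ n) (· ▸ n.mulT)
  have ct : ∀ x ∈ gen F.gs, Mp pg pg x 4 4 := fun x m => by
    obtain ⟨c, l, rfl⟩ := pg.ex m
    exact Mp.sf pg c 4 4 (by clear * - l; decide +kernel +revert)
  obtain e | ⟨d4, d1, d2, d8, dd⟩ := F.hd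
  · have g : gen (F.d :: F.gs) = gen F.gs := le_antisymm (gen_le.2 (List.forall_mem_cons.2 ⟨e ▸ one_mem _, fun _ => mem_gen⟩))
      (gen_tail _ _)
    exact ⟨f, _, _, _, 1, 32, gl, ((K (Co.fn (d := 1) (tn := 32) ⟨pg.pgroup, le_rfl, ct, fun x m => .inl m, nofun, g ▸ F.into, g ▸ F.fus⟩
      (.inl rfl) pg.card R S)).fm nofun).1, nofun, zX, F.v1X, F.v2X, fun p => ⟨fX p, one_mem _⟩, .inl rfl⟩
  have nd : ∀ {x}, Mp pg pg x 2 1 → x ∉ gen F.gs := fun a m =>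
    let ⟨c, l, e⟩ := pg.ex m; absurd (a.of_eq e) (by clear * - l; decide +kernel +revert)
  have d16 := (d2.ck d1).cast 16 16
  have fa := pg.fa (g := F.d) [2, 1, 4, 24, 16] rfl fun n l => by
    change n < 5 at l
    interval_cases n
    exacts [d1, d2, d4, d8, d16]
  obtain ⟨p, q⟩ : ∃ p, F.d * F.d = el F.gs p := dd.elim (fun e => ⟨0, e.trans (el_zero _).symm⟩) fun e => ⟨4, e⟩
  have P := pg.cons (nd d2) q fa
  have n := K (Co.fn (d := F.d) ⟨P.pgroup, gen_tail _ _, fun x m => mem_cent.1 (gen_le.2 (List.forall_mem_cons.2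
    ⟨mem_cent.2 d4, fun y m => mem_cent.2 (ct y (mem_gen m))⟩) m), fun x m => by
      obtain ⟨c, -, rfl⟩ := P.ex m
      rw [el]
      split_ifs
      exacts [.inr ⟨rfl, by rw [inv_mul_cancel_left]; exact el_mem _ _⟩, .inl (by rw [one_mul]; exact el_mem _ _)],
    fun _ => ⟨mem_gen (.head _), d1, d2, d8⟩, F.into, F.fus⟩ (.inr rfl) P.card R S)
  obtain ⟨d, hd, dX⟩ := ch F.d
  have a : ∀ {x y}, Mp pg pg F.d x y → y < 32 → Mp pg pg d x y := fun {x y} a l => hd.elim (· ▸ a) fun e =>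
    e ▸ (a.tr 4).r _ (by clear * - l; decide +kernel +revert)
  have d0 : d ∉ gen [el F.gs 1, el F.gs 2, f, el F.gs 16, el F.gs 4] := fun m => nd (a d2 dk) (gen_le.2 (by
    rcases hf with e | e <;> simp [e, el_mem, mul_mem]) m)
  have sq : d * d = F.d * F.d := hd.elim (· ▸ rfl) fun e => by
    rw [e, mul_assoc, ← mul_assoc (el F.gs 4), cg_eq_iff.1 d4, mul_assoc, t2, mul_one]
  have C : ∀ p, d * d = el [el F.gs 1, el F.gs 2, f, el F.gs 16, el F.gs 4] p → PG _ ((p, [2, 1, 12, 8, 16]) :: DT0) (2 * 32) :=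
    fun p e => n.pg.cons d0 e (by
      have : cg f d = f * el F.gs 16 := by
        rcases hf with e | e <;> simp only [e, cg_mul, (a d8 dk).e, (a d4 dk).e] <;> simp only [pg.mul, pg.eq] <;> exact dk
      simp [el, (a d1 dk).e, (a d2 dk).e, (a d4 dk).e, (a d16 dk).e, this])
  refine ⟨f, _, _, _, d, 64, gl, (n.fm fun _ => ⟨hd.elim (fun e => e ▸ mem_gen (.head _)) fun e => e ▸ mul_mem (mem_gen (.head _)) n.mem, d0⟩).1,
    fun _ e => nd d2 (e ▸ one_mem _), zX, F.v1X, F.v2X, fun p => ⟨fX p, dX p⟩, .inr ⟨rfl, dd.imp (fun e => C 0 (by simp [sq, e, el]))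
      fun e => ⟨by_contra fun p => p (by rw [← e, ← sq]; exact mul_mem (dX p) (dX p)), C 16 (by simp [sq, e, el])⟩⟩⟩

theorem Fm.sym {tn : ℕ} {t f z v1 v2 d f' v1' v2' d' : G} (h : Fm tn t f z v1 v2 d)
    (e : (v1' = v1 ∧ v2' = v2 ∧ (f' = f ∨ f' = f * t)) ∨ (v1' = v2 ∧ v2' = v1 ∧ (f' = f * z ∨ f' = f * z * t)))
    (hd : tn = 64 → d' ∈ gen (tg tn t f z v1 v2 d) ∧ cg v1 d' ≠ v1 ∧ cg v1 d' ≠ v1 * z) :
    Fm tn t f' z v1' v2' d' ∧ gen (tg tn t f' z v1' v2' d') = gen (tg tn t f z v1 v2 d) := by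
  have n := fn h
  have m := fun x (m : x ∈ [v2, v1, f, z, t]) => mem_gen m
  have k : tn = 64 → d' ∉ gen [v2, v1, f, z, t] := fun e p => by
    obtain ⟨c, l, rfl⟩ := h.pg.ex p
    have a : v1 = el [v2, v1, f, z, t] 2 := by simp [el]
    have b : v1 * z = el [v2, v1, f, z, t] 10 := by simp [el]
    obtain ⟨-, u, v⟩ := hd e
    have pg := h.pg
    generalize [v2, v1, f, z, t] = gs at a b u v pg
    rw [b] at v
    rw [a, pg.cg, Ne, pg.inj] at u v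
    exact absurd v (by clear * - l u; decide +kernel +revert)
  refine Fn.fm ?_ fun q => ⟨(hd q).1, fun p => k q (gen_le.2 ?_ p)⟩ <;>
    rcases e with ⟨rfl, rfl, rfl | rfl⟩ | ⟨rfl, rfl, rfl | rfl⟩
  exacts [n, n.mulT, n.swap, n.swap.mulT, m, by simp [m, mul_mem], by simp [m, mul_mem],
    by simpa [m] using mul_mem (mul_mem (m f (by simp)) (m z (by simp))) (m t (by simp))]

end Cfsg.Lib.D8
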