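import Cfsg.Agent.Lib.D8.Ck
import Cfsg.Agent.Lib.D8.FmA

/-! The meaning of the states of the tower checker, and soundness of its basic procedures (helper29). -/

set_option autoImplicit false

namespace Cfsg.Lib.D8

open Cfsg.Lib.H33 Cfsg.Lib.Calc Subgroup

variable {G : Type*} [Group G]

/-- The meaning of a context. -/
structure SC (c : Cx) (X : Subgroup G) (gs : List G) : Prop where
  ok : GOK c.g gs
  ind : Ind gs
  len : 2 ^ gs.length = c.n
  gl : Gl X (el gs c.t)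
  fm : Fm c.tn (el gs c.t) (el gs c.f) (el gs c.z) (el gs c.v1) (el gs c.v2) (el gs c.d)
  cl : c.chi < 4096
  chi : ∀ x, el gs x ∈ X ↔ px c.chi x = false

/-- `w` normalises `P`, its square lies in `P`, and it moves the class of `t`. -/
def PN (P : Subgroup G) (t w : G) : Prop := (∀ x ∈ P, cg x w ∈ P) ∧ w * w ∈ P ∧ ∀ p ∈ P, cg t w ≠ cg t p

/-- The pending properties. -/
def PD (c : Cx) (s : St) (gs : List G) (w : G) : Prop :=
  (∀ r ∈ s.pr, cg (el gs r) w ∈ gen gs) ∧ (s.pn = true → PN (gen gs) (el gs c.t) w)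

/-- The meaning of a state. -/
structure SS (c : Cx) (s : St) (gs : List G) : Prop where
  ff : ∀ p ∈ s.ff, ∃ w, Mq gs w p.1 p.2
  pl : ∀ x ∈ s.pl, IsConj (el gs c.t) (el gs x)
  nl : ∀ x ∈ s.nl, ¬ IsConj (el gs c.t) (el gs x)
  cz : ∀ e ∈ s.cz, ∀ g ∈ gen gs, cg (el gs e.1) g = el gs e.1 → ∃ i < e.2.2, g = el gs (look e.2.1 i)
  cn : ∀ a ∈ s.cn, CenL (a.map (el gs))
  an : ∀ y ∈ s.an, An (gen gs) (el gs y)
  syl : s.syl = true → Sy ⊤ (gen gs)
  pd : ∃ w, Mq gs w s.hd.1 s.hd.2 ∧ PD c s gs w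

universe u

/-- The state leads to the conclusion. -/
def Valid (c : Cx) (s : St) : Prop :=
  ∀ (G : Type u) [Group G] [Finite G] (X : Subgroup G) (gs : List G), SC c X gs → SS c s gs → Goal X (el gs c.t) c.tn

theorem hK_ok {l : List ℕ} {k : ℕ → Bool} (h : hK l k = true) : ∃ a m, l = a :: m ∧ k a = true := by
  cases l with
  | nil => exact absurd h Bool.false_ne_true
  | cons a m => exact ⟨a, m, rfl, h⟩

theorem bit_lor {S x e : ℕ} (h : bit (Nat.lor S (Nat.shiftLeft (nat_lit 1) e)) x = true) : bit S x = true ∨ x = e := by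
  rw [bit_eq] at h ⊢
  change (S ||| 1 <<< e).testBit x = true at h
  rw [Nat.testBit_or, Nat.one_shiftLeft, Bool.or_eq_true, Nat.testBit_two_pow, decide_eq_true_eq] at h
  exact h.imp id Eq.symm

theorem bit_bs {N x : ℕ} {l : List ℕ} (h : bit (bs N l) x = true) : ∃ a ∈ l, x = a % N := by
  induction l with
  | nil => rw [bit_eq] at h; exact absurd h (by simp [bs])
  | cons a l ih =>
    rcases bit_lor h with h | h
    · obtain ⟨b, m, e⟩ := ih h; exact ⟨b, List.mem_cons_of_mem _ m, e⟩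
    · exact ⟨a, List.mem_cons_self, h⟩

namespace MU

variable {gs : List G} {μ : ℕ → ℕ → ℕ} {N : ℕ} (h : MU gs μ N)
include h

theorem selK {w : G} {dm cd : List ℕ} (a : Mq gs w dm cd) {xs : List ℕ} {W : ℕ} {k : List ℕ → ℕ → Bool}
    (e : selK μ N dm cd xs W k = true) : ∃ ys W', Mq gs w xs ys ∧ k ys W' = true := by
  induction xs generalizing W k with
  | nil => exact ⟨[], W, .nil, e⟩
  | cons x xs ih =>
    change forceB _ (fun s => band (eqv N (H33.hm μ dm s) x) (forceB (H33.hm μ cd s) fun y =>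
      forceB (Nat.shiftRight W (nat_lit 12)) fun W => D8.selK μ N dm cd xs W fun ys W => k (y :: ys) W)) = true at e
    simp only [forceB_eq, band_eq_true] at e
    obtain ⟨ys, W', p, q⟩ := ih e.2
    exact ⟨_, W', .cons (by rw [← h.eq.1 e.1, h.hmq a]) p, q⟩

theorem wd {ff : List (List ℕ × List ℕ)} (a : ∀ p ∈ ff, ∃ w, Mq gs w p.1 p.2) {W : ℕ} {xs : List ℕ} {k : List ℕ → Bool}
    (e : wd μ N ff W xs k = true) : ∃ w ys, Mq gs w xs ys ∧ k ys = true := by
  simp only [D8.wd, forceB_eq, mapK_eq] at e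
  generalize Nat.land W (nat_lit 4095) = n at e
  generalize Nat.shiftRight W (nat_lit 12) = W at e
  induction n generalizing W xs with
  | zero => exact ⟨1, xs, .refl _ _, e⟩
  | succ n ih =>
    rcases cB_iff.1 e with ⟨-, e⟩ | ⟨-, e⟩
    · obtain ⟨p, e⟩ := band_eq_true.1 e
      obtain ⟨w, ys, b, c⟩ := ih _ e
      refine ⟨_, ys, Mq.trans (v := el gs (look W 1)) ?_ b, c⟩
      rw [Mq, List.forall₂_map_right_iff]
      exact List.forall₂_same.2 fun x _ => (h.cnj p x).symm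
    · obtain ⟨p, m, e⟩ := nthK_ok e
      obtain ⟨v, a⟩ := a p m
      rcases cB_iff.1 e with ⟨-, e⟩ | ⟨-, e⟩
      · obtain ⟨zs, W', b, e⟩ := h.selK a e
        obtain ⟨w, ys, b', c⟩ := ih _ e
        exact ⟨_, ys, b.trans b', c⟩
      · obtain ⟨zs, W', b, e⟩ := h.selK a.symm e
        obtain ⟨w, ys, b', c⟩ := ih _ e
        exact ⟨_, ys, b.trans b', c⟩

theorem noK {y u l gi : ℕ} (e : noK μ N y u l gi = true) {p : G} (m : p ∈ gen gs) : cg (el gs y) p ≠ el gs u := by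
  obtain ⟨l, e⟩ := uk_ok e
  simp only [forceB_eq, band_eq_true, bn_iff, allLt_iff, allG_iff] at e
  obtain ⟨⟨e1, e2⟩, e3⟩ := e
  obtain ⟨x, -, rfl⟩ := h.ex m
  have := el_ind (gs := gs) (fun p => ∀ a < N, bit (bs N l) a = true → ∃ b < N, bit (bs N l) b = true ∧ cg (el gs a) p = el gs b)
    (fun a p q => ⟨a, p, q, by simp [cg]⟩) (fun v w p q a r t => by
      obtain ⟨b, r, t, e⟩ := p a r t
      obtain ⟨b', r, t, e'⟩ := q b r t
      exact ⟨b', r, t, by rw [← cg_cg, e, e']⟩) (h.gens fun i hi a _ t => by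
      obtain ⟨b, m, rfl⟩ := bit_bs t
      exact ⟨_, h.lt _ _, (e3 i hi).2 b m, by rw [h.md, h.cnj (e3 i hi).1]; rfl⟩) x
  obtain ⟨b, r, t, e⟩ := this _ (Nat.mod_lt _ h.pos) e1
  intro n
  rw [h.md, n, ← h.md] at e
  exact e2 (by rw [show Nat.mod u N = b from h.inj (Nat.mod_lt _ h.pos) r e]; exact t)

theorem cov' {ok : ℕ → Bool} (Q : ℕ → Prop) (a : ∀ g x y, ok g = true → cg (el gs y) (el gs g) = el gs x → Q y → Q x)
    {CG CI st S : ℕ} {k : ℕ → Bool} (e : cov μ ok CG CI st S k = true) (b : ∀ x, bit S x = true → Q x) :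
    ∃ S', k S' = true ∧ ∀ x, bit S' x = true → Q x := by
  simp only [D8.cov, forceB_eq, band_eq_true, allLt_iff] at e
  obtain ⟨e1, e⟩ := e
  generalize Nat.div (ln st) (nat_lit 2) = n at e
  induction n generalizing S with
  | zero => exact ⟨S, e, b⟩
  | succ n ih =>
    obtain ⟨e2, e⟩ := band_eq_true.1 e
    obtain ⟨e2, e3⟩ := band_eq_true.1 e2
    refine ih (fun x t => ?_) e
    rcases bit_lor t with t | rfl
    · exact b x t
    · obtain ⟨i1, i2⟩ := e1 _ (blt_iff.1 e3)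
      exact a _ _ _ i2 (h.cnj i1 _).symm (b _ e2)

theorem cov {ok : ℕ → Bool} {H : Subgroup G} (a : ∀ g, ok g = true → el gs g ∈ H) {CG CI st S : ℕ} {k : ℕ → Bool}
    (e : cov μ ok CG CI st S k = true) :
    ∃ S', k S' = true ∧ ∀ x, bit S' x = true → ∃ p ∈ H, ∃ y, bit S y = true ∧ cg (el gs x) p = el gs y :=
  h.cov' _ (fun g x y i e ⟨p, m, u, r, q⟩ => ⟨_, mul_mem (inv_mem (a _ i)) m, u, r, by
    rw [← e, cg_cg, mul_inv_cancel_left, q]⟩) e fun x b => ⟨1, one_mem _, x, b, by simp [cg]⟩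

theorem relK {w : G} {xs ys : List ℕ} (a : Mq gs w xs ys) {r sx se : ℕ} {k : List ℕ → List ℕ → Bool}
    (e : relK μ xs ys r sx se k = true) : ∃ y u, Mq gs (cg (el gs r) w) y u ∧ k y u = true := by
  obtain ⟨sx, e⟩ := uk_ok e
  obtain ⟨se, e⟩ := uk_ok e
  simp only [forceB_eq, band_eq_true, mapK_eq, all2_iff] at e
  refine ⟨_, _, ?_, e.2⟩
  rw [Mq, List.forall₂_map_left_iff, List.forall₂_map_right_iff]
  exact e.1.imp fun i j p => by rw [← h.hmq a, ← h.hmq a, ← h.cj.1 p]; exact (cg_cg' _ _ _).symm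

end MU

namespace SC

variable {c : Cx} {X : Subgroup G} {gs : List G} (h : SC c X gs)
include h

theorem mu : MU gs c.m c.n := ⟨h.ok.mr h.len, let ⟨D, r⟩ := h.ok.rel; ⟨D, r, h.ind, h.len⟩⟩

theorem cX (x w : G) : cg x w ∈ X ↔ x ∈ X := by
  have := h.gl.nX
  exact ⟨fun m => by simpa [cg, mul_assoc] using this.conj_mem _ m w, fun m => by simpa [cg] using this.conj_mem _ m w⁻¹⟩

theorem dX {x y : ℕ} (e : dX c x y = true) (w : G) : cg (el gs x) w ≠ el gs y := fun n => by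
  have := h.cX (el gs x) w
  rw [n, h.chi, h.chi] at this
  rcases cB_iff.1 e with ⟨a, b⟩ | ⟨a, b⟩
  · rw [bn_iff, Bool.not_eq_true] at b; rw [this.1 b] at a; cases a
  · rw [this.2 a] at b; cases b

theorem t1 : el gs c.t ≠ 1 := fun n => by
  have := (h.fm.pg.one 16).1 (by simpa [el] using n)
  omega

theorem tle : gen (tg c.tn (el gs c.t) (el gs c.f) (el gs c.z) (el gs c.v1) (el gs c.v2) (el gs c.d)) ≤ gen gs := by
  refine gen_le.2 fun x m => ?_
  unfold tg at m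
  split_ifs at m <;> simp only [List.mem_cons, List.not_mem_nil, or_false] at m <;>
    rcases m with rfl | rfl | rfl | rfl | rfl | rfl <;> exact el_mem _ _

theorem inT {x : G} (m : x ∈ gen gs) (e : cg (el gs c.t) x = el gs c.t) :
    x ∈ gen (tg c.tn (el gs c.t) (el gs c.f) (el gs c.z) (el gs c.v1) (el gs c.v2) (el gs c.d)) :=
  h.fm.mx _ h.mu.pgroup h.tle x m e

variable {s : St} (k : SS c s gs)
include k

theorem pos {x : ℕ} (e : pos c s x = true) : IsConj (el gs c.t) (el gs x) := by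
  rcases bor_eq_true.1 e with e | e
  · rw [h.mu.eq.1 e]
  · exact k.pl x (memL_iff.1 e)

theorem neg {y : ℕ} (e : neg c s y = true) : ¬ IsConj (el gs c.t) (el gs y) := by
  simp only [D8.neg, bor_eq_true, bn_iff] at e
  intro n
  obtain ⟨w, q⟩ := exists_cg n
  rcases e with e | e | e | e | e
  · exact h.fm.z1 (h.mu.eq.1 e ▸ n)
  · exact k.nl y (memL_iff.1 e) n
  · exact h.dX e _ (cg_symm q)
  · rw [h.mu.z.1 e, cg_eq_one] at q; exact h.t1 q
  · exact e (h.mu.one.2 (by rw [← q, ← cg_mul, h.gl.tt, cg_eq_one]))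

theorem cnW [Finite G] {j W : ℕ} {f : List ℕ → Bool} (e : cnW c s j W f = true) : ∃ a, CenL (a.map (el gs)) ∧ f a = true := by
  obtain ⟨a, m, e⟩ := nthK_ok e
  rw [mapK_eq, List.map_id'] at e
  obtain ⟨w, b, p, e⟩ := h.mu.wd k.ff e
  refine ⟨b, p.map ▸ CenL.conj ?_ w, e⟩
  rcases List.mem_cons.1 m with rfl | m
  · exact h.fm.cen1
  rcases List.mem_cons.1 m with rfl | m
  · simpa only [List.map_cons, List.map_nil, h.mu.mul] using h.fm.cen2
  · exact k.cn a m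

theorem spec [Finite G] {tag a b q : ℕ} {ys us : List ℕ} {f : ℕ → (ℕ → ℕ) → Bool} (e : spec c s tag a b q ys us f = true) {p : G}
    (m : p ∈ gen gs) (r : Mq gs p ys us) : ∃ n φ, f n φ = true ∧ ∃ i < n, φ i < c.n ∧ p = el gs (φ i) := by
  have M := h.mu
  simp only [D8.spec, cB_iff, band_eq_true, all2_iff] at e
  rcases e with ⟨-, e⟩ | ⟨-, ⟨-, e⟩ | ⟨-, e0, e⟩⟩
  · obtain ⟨x, l, rfl⟩ := M.ex m
    exact ⟨_, _, e, x, l, l, rfl⟩
  · obtain ⟨y, _, rfl, e1⟩ := hK_ok e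
    obtain ⟨u, _, rfl, e2⟩ := hK_ok e1
    cases r with | cons r _ => exact absurd r (M.noK e2 m)
  have r' : Mq gs (el gs q) ys us := e0.imp fun _ _ e => M.cj.1 e
  have fx : ∀ y ∈ ys, cg (el gs y) (p * (el gs q)⁻¹) = el gs y := List.forall₂_same.1 (r.trans r'.symm)
  have m' : p * (el gs q)⁻¹ ∈ gen gs := mul_mem m (inv_mem (el_mem _ _))
  rcases e with ⟨-, e⟩ | ⟨-, e⟩
  · obtain ⟨l, ce, e⟩ := h.cnW k e
    obtain ⟨e1, e⟩ := band_eq_true.1 e
    obtain rfl := beqL_iff.1 e1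
    obtain ⟨i, li, ei⟩ := ce.2 _ (fun y my => by obtain ⟨y, my', rfl⟩ := List.mem_map.1 my; exact fx y my') (pow_of_pg M.pgroup m')
    exact ⟨_, _, e, i, by rwa [p2_eq, ← List.length_map (el gs)], M.lt _ _, by rw [M.mul, M.hm, ← ei]; simp⟩
  · obtain ⟨z, mz, e⟩ := nthK_ok e
    obtain ⟨y, _, rfl, e1⟩ := hK_ok e
    rw [band_eq_true, forceB_eq] at e1
    obtain ⟨i, li, ei⟩ := k.cz z mz _ m' (by rw [M.eq.1 e1.1]; exact fx y List.mem_cons_self)
    exact ⟨_, _, e1.2, i, li, M.lt _ _, by rw [M.mul, ← ei]; simp⟩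

end SC

end Cfsg.Lib.D8
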