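import Cfsg.Agent.Lib.H33.Sy
import Cfsg.Prelude.Def_Local
import Cfsg.Prelude.Def_Classical
import Cfsg.Prelude.Def_Spor_Conway
import Cfsg.Prelude.Def_Spor_He
import Cfsg.Prelude.Def_Spor_Mathieu

/-! Involutions with a 2-component whose Sylow 2-subgroups are dihedral of order 8 (helper29): the interfaces.
`Hy` = hypothesis of S3107 with the layer only known to be simple with dihedral Sylow 2-subgroups of order 8;
`Fr` = the 2-local frame inside `X⟨t⟩`; `Out`, `Hy.Concl` = the conclusions. See docs/D8.md. -/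

set_option autoImplicit false

namespace Cfsg.Lib.D8

open Cfsg.Lib.H33 Subgroup

/-- `C(t)`. -/
abbrev Ct {G : Type*} [Group G] (t : G) : Subgroup G := centralizer ({t} : Set G)

/-- `C(t)/O(C(t))`. -/
abbrev Qt {G : Type*} [Group G] (t : G) := Ct t ⧸ oddCore (Ct t)

/-- The layer of `C(t)/O(C(t))`. -/
abbrev Lt {G : Type*} [Group G] (t : G) : Subgroup (Qt t) := layer (Qt t)

/-- The hypothesis of S3107, the layer being any simple group with Sylow 2-subgroups `D₈`. -/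
structure Hy {G : Type*} [Group G] [Finite G] (t : G) : Prop where
  sim : IsSimpleGroup (generalizedFittingSubgroup G)
  nab : ¬ IsMulCommutative (generalizedFittingSubgroup G)
  rk : ¬ SectionalPRankLE 2 4 (generalizedFittingSubgroup G)
  ord : orderOf t = 2
  lsim : IsSimpleGroup (Lt t)
  d8 : ∀ S : Sylow 2 (Lt t), Nonempty ((S : Subgroup (Lt t)) ≃* DihedralGroup 4)
  cen : centralizer ((Lt t : Subgroup (Qt t)) : Set (Qt t)) =
    zpowers (QuotientGroup.mk (⟨t, mem_centralizer_singleton_iff.2 rfl⟩ : Ct t) : Qt t)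

/-- The four groups with `t` outside. -/
def Out (X : Type*) [Group X] : Prop :=
  (∃ (F : Type) (_ : Field F) (_ : Fintype F), Fintype.card F = 4 ∧
      (Nonempty (X ≃* PSp 2 F) ∨ Nonempty (X ≃* PSU 5 F 2))) ∨
    (∃ (F : Type) (_ : Field F) (_ : Fintype F), Fintype.card F = 2 ∧
      Nonempty (X ≃* Matrix.ProjectiveSpecialLinearGroup (Fin 5) F)) ∨ Spor.IsoHe X

/-- The conclusion of the core theorem. -/
def Concl {G : Type*} [Group G] [Finite G] (t : G) : Prop :=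
  (t ∉ generalizedFittingSubgroup G ∧ Out (generalizedFittingSubgroup G)) ∨
    (t ∈ generalizedFittingSubgroup G ∧ Spor.IsoHS (generalizedFittingSubgroup G) ∧
      64 ∣ Nat.card (generalizedFittingSubgroup G ⊓ Ct t : Subgroup G))

/-- `T₀ = D × ⟨t, f⟩`, codes `v₂ = 1, v₁ = 2, t = 4, f = 8, z = 16`, `D = ⟨v₁, v₂⟩` (mask 19), `z = [v₁, v₂]`. -/
def D0 : Dat := [(0, [9, 2, 4, 8]), (0, [1, 2, 4]), (0, [1, 2]), (0, [1]), (0, [])]

/-- The frame: `G = X⟨t⟩`, `X` simple of sectional rank at least 5, `T = T₀⟨d⟩` a Sylow 2-subgroup of `C(t)`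
(`d = 1` allowed), fusion in `C(t)` preserves the cosets of `D`, and two 3-elements `ρ₁, ρ₂`. -/
structure Fr (G : Type*) [Group G] where
  gs : List G
  pg : PG gs D0 32
  X : Subgroup G
  nX : X.Normal
  sim : IsSimpleGroup X
  nab : ¬ IsMulCommutative X
  rk : ¬ SectionalPRankLE 2 4 X
  top : X ⊔ zpowers (el gs 4) = ⊤
  v2X : el gs 1 ∈ X
  v1X : el gs 2 ∈ X
  d : G
  hd : d = 1 ∨ (Mp pg pg d 4 4 ∧ Mp pg pg d 1 2 ∧ Mp pg pg d 2 1 ∧ Mp pg pg d 8 24 ∧ (d * d = 1 ∨ d * d = el gs 4))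
  into : ∀ P : Subgroup G, IsPGroup 2 P → (∀ y ∈ P, cg (el gs 4) y = el gs 4) →
    ∃ x, Mp pg pg x 4 4 ∧ ∀ y ∈ P, cg y x ∈ gen (d :: gs)
  fus : ∀ w, Mp pg pg w 4 4 → ∀ x ∈ gen (d :: gs), cg x w ∈ gen (d :: gs) → x⁻¹ * cg x w ∈ MS gs 19
  rho1 : ∃ ρ, Mp pg pg ρ 4 4 ∧ Mp pg pg ρ 8 8 ∧ Mp pg pg ρ 16 2 ∧ Mp pg pg ρ 2 18
  rho2 : ∃ ρ, Mp pg pg ρ 4 4 ∧ Mp pg pg ρ 24 24 ∧ Mp pg pg ρ 16 1 ∧ Mp pg pg ρ 1 17

/-- The conclusion of the tower argument. -/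
def Fr.Concl {G : Type*} [Group G] (F : Fr G) : Prop :=
  (el F.gs 4 ∉ F.X ∧ (Out F.X ∨ Spor.IsoM24 F.X)) ∨ (el F.gs 4 ∈ F.X ∧ F.d ≠ 1 ∧ Spor.IsoHS G)

end Cfsg.Lib.D8
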