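import Cfsg.Agent.Lib.D8.Def

/-! The group-theoretic interface of the tower checker (helper29): the frame as a list of properties of elements. -/

set_option autoImplicit false

namespace Cfsg.Lib.D8

open Cfsg.Lib.H33 Subgroup

variable {G : Type*} [Group G]

/-- Commuting involutions whose span contains every 2-element centralising them. -/
def CenL (a : List G) : Prop :=
  (∀ x ∈ a, x * x = 1 ∧ ∀ y ∈ a, cg y x = y) ∧
    ∀ x, (∀ y ∈ a, cg y x = y) → (∃ n, x ^ 2 ^ n = 1) → ∃ c < 2 ^ a.length, x = el a c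

/-- Generators of the Sylow 2-subgroup of `C(t)`. -/
def tg {α : Type*} (tn : ℕ) (t f z v1 v2 d : α) : List α :=
  if tn = 64 then [d, v2, v1, f, z, t] else [v2, v1, f, z, t]

/-- An involution of the four-group `⟨z, v⟩`. -/
def InV (z v y : G) : Prop := y = z ∨ y = v ∨ y = v * z

/-- Each entry normalises the group generated by the later entries and `a`. -/
def NCh (a : List G) : List G → Prop
  | [] => True
  | x :: l => (∀ y ∈ l ++ a, cg y x ∈ gen (l ++ a)) ∧ NCh a l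

/-- `C_P(y)` is a Sylow 2-subgroup of `C(y)`. -/
def An (P : Subgroup G) (y : G) : Prop :=
  ∀ Q : Subgroup G, IsPGroup 2 Q → (∀ x ∈ Q, cg y x = y) → ∃ w, cg y w = y ∧ ∀ x ∈ Q, cg x w ∈ P

/-- `S` is a Sylow 2-subgroup of `X`. -/
structure Sy (X S : Subgroup G) : Prop where
  pg : IsPGroup 2 S
  le : S ≤ X
  mx : ¬ 2 * Nat.card S ∣ Nat.card X

/-- The start groups, generators `v₂, v₁, f, z, t` and `d, v₂, v₁, f, z, t` with `d² = 1` or `d² = t`. -/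
def DT0 : Dat := [(0, [5, 2, 4, 8]), (0, [1, 2, 4]), (0, [1, 2]), (0, [1]), (0, [])]
def DT1 : Dat := (0, [2, 1, 12, 8, 16]) :: DT0
def DT2 : Dat := (16, [2, 1, 12, 8, 16]) :: DT0

/-- The global hypotheses. -/
structure Gl (X : Subgroup G) (t : G) : Prop where
  nX : X.Normal
  sim : IsSimpleGroup X
  nab : ¬ IsMulCommutative X
  rk : ¬ SectionalPRankLE 2 4 X
  top : X ⊔ zpowers t = ⊤
  tt : t * t = 1

/-- The frame; `T = gen (tg ..)` is a Sylow 2-subgroup of `C(t)`, of order `tn`. -/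
structure Fm (tn : ℕ) (t f z v1 v2 d : G) : Prop where
  pg : PG [v2, v1, f, z, t] DT0 32
  hn : tn = 32 ∨ tn = 64
  card : Nat.card (gen (tg tn t f z v1 v2 d)) = tn
  z1 : ¬ IsConj t z
  dv : tn ∣ Nat.card (Ct t)
  nd : ¬ 2 * tn ∣ Nat.card (Ct t)
  big : ∀ P : Subgroup G, IsPGroup 2 P → (∀ y ∈ P, cg t y = t) → Nat.card P ≤ tn
  into : An (gen (tg tn t f z v1 v2 d)) t
  nf : ∀ x ∈ gen (tg tn t f z v1 v2 d), ∃ c < tn, x = el (tg tn t f z v1 v2 d) c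
  mx : ∀ P : Subgroup G, IsPGroup 2 P → gen (tg tn t f z v1 v2 d) ≤ P → ∀ x ∈ P, cg t x = t →
    x ∈ gen (tg tn t f z v1 v2 d)
  fus : ∀ w, cg t w = t → ∀ x ∈ gen (tg tn t f z v1 v2 d), cg x w ∈ gen (tg tn t f z v1 v2 d) →
    ∃ c < 8, cg x w = x * el [v2, v1, z] c
  cen1 : CenL [t, f, z, v1]
  cen2 : CenL [t, f * z, z, v2]
  rg1 : ∀ w, cg t w = t → cg f w ∈ gen (tg tn t f z v1 v2 d) → cg z w ∈ gen (tg tn t f z v1 v2 d) →
    cg v1 w ∈ gen (tg tn t f z v1 v2 d) → (cg f w = f ∧ InV z v1 (cg z w) ∧ InV z v1 (cg v1 w)) ∨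
      (tn = 64 ∧ cg f w = f * z ∧ InV z v2 (cg z w) ∧ InV z v2 (cg v1 w))
  rg2 : ∀ w, cg t w = t → cg (f * z) w ∈ gen (tg tn t f z v1 v2 d) → cg z w ∈ gen (tg tn t f z v1 v2 d) →
    cg v2 w ∈ gen (tg tn t f z v1 v2 d) → (cg (f * z) w = f * z ∧ InV z v2 (cg z w) ∧ InV z v2 (cg v2 w)) ∨
      (tn = 64 ∧ cg (f * z) w = f ∧ InV z v1 (cg z w) ∧ InV z v1 (cg v2 w))
  rho1 : ∃ ρ, cg t ρ = t ∧ cg f ρ = f ∧ cg z ρ = v1 ∧ cg v1 ρ = v1 * z
  rho2 : ∃ ρ, cg t ρ = t ∧ cg (f * z) ρ = f * z ∧ cg z ρ = v2 ∧ cg v2 ρ = v2 * z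

/-- The conclusion. -/
def Goal (X : Subgroup G) (t : G) (tn : ℕ) : Prop :=
  (t ∉ X ∧ (Out X ∨ Spor.IsoM24 X)) ∨ (t ∈ X ∧ tn = 64 ∧ Spor.IsoHS G)

end Cfsg.Lib.D8
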