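import Cfsg.Agent.Lib.H33.Pc

/-! Power-conjugate presentations with conjugation tables, for the tower checker (helper29). -/

set_option autoImplicit false

namespace Cfsg.Lib.D8

open Cfsg.Lib.H33 Cfsg.Lib.Calc Subgroup

variable {G : Type*} [Group G]

/-- Entry `x` of a table of width 12. -/
def look (tb x : ℕ) : ℕ := Nat.land (Nat.shiftRight tb (Nat.mul (nat_lit 12) x)) (nat_lit 4095)

/-- `a` if `b = 0`, else `c`. -/
noncomputable def sw (b a c : ℕ) : ℕ := Nat.rec a (fun _ _ => c) b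

theorem sw_land (m a c : ℕ) : sw (Nat.land m (nat_lit 1)) a c = if m % 2 = 0 then a else c := by
  rw [show Nat.land m (nat_lit 1) = m % 2 from Nat.and_one_is_mod m]
  rcases Nat.mod_two_eq_zero_or_one m with h | h <;> rw [h] <;> rfl

/-- A new generator `w` on top (`A` = action of `w`, `B` = `w²` times it), or a full table. -/
inductive Gd
  | triv
  | ext (A B N : ℕ) (g : Gd)
  | tb (T N : ℕ) (g : Gd)

/-- Multiplication of reduced codes. -/
noncomputable def m0 (g : Gd) : ℕ → ℕ → ℕ :=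
  Gd.rec (fun _ _ => nat_lit 0)
    (fun A B _ _ ih x y => Nat.rec x (fun m _ => Nat.rec (Nat.succ m) (fun k _ => sw (Nat.land m (nat_lit 1))
      (sw (Nat.land k (nat_lit 1))
        (Nat.mul (nat_lit 2) (ih (look B (Nat.shiftRight k (nat_lit 1))) (Nat.shiftRight m (nat_lit 1))))
        (Nat.succ (Nat.mul (nat_lit 2) (ih (look A (Nat.shiftRight (Nat.succ k) (nat_lit 1))) (Nat.shiftRight m (nat_lit 1))))))
      (Nat.add (Nat.mul (nat_lit 2) (ih (Nat.shiftRight (Nat.succ k) (nat_lit 1)) (Nat.shiftRight (Nat.succ m) (nat_lit 1))))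
        (Nat.land (Nat.succ k) (nat_lit 1)))) x) y)
    (fun T N _ _ x y => look T (Nat.add (Nat.mul N x) y)) g

theorem m0_ext (A B N : ℕ) (g : Gd) (x y : ℕ) : m0 (.ext A B N g) x y = if y = 0 then x else if x = 0 then y else
    if y % 2 = 1 then (if x % 2 = 1 then 2 * m0 g (look B (x / 2)) (y / 2) else 2 * m0 g (look A (x / 2)) (y / 2) + 1)
    else 2 * m0 g (x / 2) (y / 2) + x % 2 := by
  rcases y with _ | m
  · rfl
  rcases x with _ | k
  · rfl
  change sw (Nat.land m (nat_lit 1)) (sw (Nat.land k (nat_lit 1)) (2 * m0 g (look B (k >>> 1)) (m >>> 1))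
    (2 * m0 g (look A ((k + 1) >>> 1)) (m >>> 1) + 1)) (2 * m0 g ((k + 1) >>> 1) ((m + 1) >>> 1) + ((k + 1) &&& 1)) = _
  simp only [sw_land, Nat.shiftRight_eq_div_pow, pow_one, Nat.and_one_is_mod, Nat.add_one_ne_zero, if_false]
  rcases Nat.mod_two_eq_zero_or_one m with a | a
  · rw [if_pos a, if_pos (show (m + 1) % 2 = 1 by omega), show (m + 1) / 2 = m / 2 by omega]
    rcases Nat.mod_two_eq_zero_or_one k with b | b
    · rw [if_pos b, if_pos (by omega), show (k + 1) / 2 = k / 2 by omega]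
    · rw [if_neg (by omega), if_neg (by omega)]
  · rw [if_neg (by omega), if_neg (by omega)]

/-- The tables are right. -/
def GOK : Gd → List G → Prop
  | .triv, gs => gs = []
  | .ext A B N g, gs => ∃ w gs', gs = w :: gs' ∧ N = 2 ^ gs'.length ∧ (∀ x < N, look A x < N ∧ look B x < N ∧
      cg (el gs' x) w = el gs' (look A x) ∧ w * w * cg (el gs' x) w = el gs' (look B x)) ∧ GOK g gs'
  | .tb T N g, gs => N = 2 ^ gs.length ∧ (∀ x < N, ∀ y < N, look T (N * x + y) < N ∧
      el gs (look T (N * x + y)) = el gs x * el gs y) ∧ GOK g gs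

/-- The defining relations hold. -/
def RelG : Gd → List G → Prop
  | .triv, gs => gs = []
  | .ext A B N g, gs => ∃ w gs', gs = w :: gs' ∧ N = 2 ^ gs'.length ∧ w * w = el gs' (look B 0) ∧
      (∀ i < gs'.length, cg (el gs' (2 ^ i)) w = el gs' (look A (2 ^ i))) ∧ RelG g gs'
  | .tb _ N g, gs => N = 2 ^ gs.length ∧ RelG g gs

theorem GOK.m0 {g : Gd} {gs : List G} (h : GOK g gs) {x y : ℕ} (hx : x < 2 ^ gs.length) (hy : y < 2 ^ gs.length) :
    m0 g x y < 2 ^ gs.length ∧ el gs (m0 g x y) = el gs x * el gs y := by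
  induction g generalizing gs x y with
  | triv => obtain rfl : gs = [] := h; exact ⟨Nat.one_pos, by simp [el]⟩
  | tb T N g _ => obtain ⟨rfl, h, -⟩ := h; exact h x hx y hy
  | ext A B N g ih =>
    obtain ⟨w, gs, rfl, rfl, h, k⟩ := h
    rw [List.length_cons, pow_succ'] at hx hy ⊢
    have x2 : x / 2 < 2 ^ gs.length := by omega
    have y2 : y / 2 < 2 ^ gs.length := by omega
    obtain ⟨a1, b1, a2, b2⟩ := h _ x2
    rw [m0_ext]
    split_ifs with c d a b
    · exact ⟨hx, by rw [c, el_zero, mul_one]⟩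
    · exact ⟨hy, by rw [d, el_zero, one_mul]⟩
    · obtain ⟨p, q⟩ := ih k b1 y2
      refine ⟨by omega, ?_⟩
      rw [el_even, q, ← b2, el, el, if_pos a, if_pos b]; simp [cg, mul_assoc]
    · obtain ⟨p, q⟩ := ih k a1 y2
      refine ⟨by omega, ?_⟩
      rw [el_odd, q, ← a2, el, el, if_pos a, if_neg b]; simp [cg, mul_assoc]
    · obtain ⟨p, q⟩ := ih k x2 y2
      refine ⟨by omega, ?_⟩
      rcases Nat.mod_two_eq_zero_or_one x with b | b
      · rw [b, add_zero, el_even, q, el, el, if_neg a, if_neg (by omega)]; simp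
      · rw [b, el_odd, q, el, el, if_neg a, if_pos b]; simp [mul_assoc]

theorem el_pow_get (l : List G) (i : ℕ) (p : i < l.length) : el l (2 ^ i) = l.get ⟨i, p⟩ := by
  induction l generalizing i with
  | nil => simp at p
  | cons b l ih =>
    rcases i with _ | i
    · simp [el, el_zero]
    · rw [pow_succ', el_even, ih i (by simpa using p)]; rfl

theorem GOK.rel {g : Gd} {gs : List G} (h : GOK g gs) : ∃ D, Rel gs D := by
  induction g generalizing gs with
  | triv => obtain rfl : gs = [] := h; exact ⟨[], trivial⟩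
  | tb T N g ih => exact ih h.2.2
  | ext A B N g ih =>
    obtain ⟨w, gs, rfl, rfl, h, k⟩ := h
    obtain ⟨D, r⟩ := ih k
    refine ⟨(look B 0, (List.range gs.length).map fun i => look A (2 ^ i)) :: D, ?_, ?_, r⟩
    · rw [← (h 0 (Nat.two_pow_pos _)).2.2.2, el_zero]; simp [cg]
    · refine List.forall₂_iff_get.2 ⟨by simp, fun i p q => ?_⟩
      rw [← el_pow_get, (h _ (Nat.pow_lt_pow_right (by decide) p)).2.2.1]; simp

/-- Multiplication of codes. -/
noncomputable def mu (g : Gd) (n x y : ℕ) : ℕ := m0 g (Nat.mod x n) (Nat.mod y n)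

/-- A multiplication of codes with reduced values. -/
structure MR (gs : List G) (μ : ℕ → ℕ → ℕ) (N : ℕ) : Prop where
  mul : ∀ x y, el gs (μ x y) = el gs x * el gs y
  lt : ∀ x y, μ x y < N
  len : 2 ^ gs.length = N

theorem GOK.mr {g : Gd} {gs : List G} (h : GOK g gs) {N : ℕ} (e : 2 ^ gs.length = N) : MR gs (mu g N) N := by
  subst e
  have p := Nat.two_pow_pos gs.length
  exact ⟨fun x y => (h.m0 (Nat.mod_lt x p) (Nat.mod_lt y p)).2.trans (by rw [el_mod, el_mod]),
    fun x y => (h.m0 (Nat.mod_lt x p) (Nat.mod_lt y p)).1, rfl⟩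

theorem el_hi (gs : List G) {i b : ℕ} (h : b < 2 ^ i) : el gs (b + 2 ^ i) = el gs b * el gs (2 ^ i) := by
  induction gs generalizing i b with
  | nil => simp [el]
  | cons g gs ih =>
    rcases i with _ | i
    · obtain rfl : b = 0 := by omega
      rw [el_zero, one_mul, zero_add]
    · rw [pow_succ'] at h ⊢
      rw [el_even, el, el, show (b + 2 * 2 ^ i) % 2 = b % 2 by omega, show (b + 2 * 2 ^ i) / 2 = b / 2 + 2 ^ i by omega,
        ih (by omega), mul_assoc]

/-- The table of length `n` is multiplicative. -/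
noncomputable def tabA (μ : ℕ → ℕ → ℕ) (n A : ℕ) : Bool :=
  band (Nat.beq (look A (nat_lit 0)) (nat_lit 0)) (allBig n fun x => bor (Nat.beq x (nat_lit 0))
    (forceB (Nat.pow (nat_lit 2) (Nat.log2 x)) fun a => Nat.beq (look A x) (μ (look A (Nat.sub x a)) (look A a))))

/-- The table `B` is `e` times the table `A`. -/
noncomputable def tabB (μ : ℕ → ℕ → ℕ) (n A B e : ℕ) : Bool := allBig n fun x => Nat.beq (look B x) (μ e (look A x))

/-- The full table. -/
noncomputable def tabT (μ : ℕ → ℕ → ℕ) (n T : ℕ) : Bool :=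
  allLt n fun x => forceB x fun x => allLt n fun y => forceB y fun y => Nat.beq (look T (Nat.add (Nat.mul n x) y)) (μ x y)

theorem MR.pos {gs : List G} {μ : ℕ → ℕ → ℕ} {N : ℕ} (h : MR gs μ N) : 0 < N := h.len ▸ Nat.two_pow_pos _

theorem MR.tab {gs : List G} {μ : ℕ → ℕ → ℕ} {N : ℕ} (h : MR gs μ N) {n A : ℕ} (k : tabA μ n A = true) (φ : G →* G) {hs : List G}
    (a : ∀ i, 2 ^ i < n → φ (el hs (2 ^ i)) = el gs (look A (2 ^ i))) {x : ℕ} (hx : x < n) :
    look A x < N ∧ φ (el hs x) = el gs (look A x) := by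
  obtain ⟨k0, k⟩ := band_eq_true.1 k
  replace k0 : look A 0 = 0 := beq_iff.1 k0
  induction x using Nat.strong_induction_on with
  | _ x ih =>
    rcases eq_or_ne x 0 with rfl | n
    · rw [k0, el_zero, el_zero, map_one]; exact ⟨h.pos, rfl⟩
    have e := allBig_iff.1 k x hx
    rw [bor_eq_true, forceB_eq] at e
    have l1 : 2 ^ x.log2 ≤ x := Nat.log2_self_le n
    have l2 : x < 2 ^ (x.log2 + 1) := Nat.lt_log2_self
    have l3 : 0 < 2 ^ x.log2 := Nat.two_pow_pos _
    rw [pow_succ] at l2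
    rw [beq_iff.1 (e.resolve_left fun c => n (beq_iff.1 c)), h.mul]
    refine ⟨h.lt _ _, ?_⟩
    change _ = el gs (look A (x - 2 ^ x.log2)) * el gs (look A (2 ^ x.log2))
    rw [← (ih _ (by omega) (by omega)).2, ← a _ (by omega), ← map_mul, ← el_hi _ (by omega), Nat.sub_add_cancel l1]

theorem GOK.ext {g : Gd} {gs : List G} (h : GOK g gs) {N : ℕ} (l : 2 ^ gs.length = N) {w : G} {A B e : ℕ}
    (a : ∀ x < N, look A x < N ∧ cg (el gs x) w = el gs (look A x)) (b : tabB (mu g N) N A B e = true)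
    (c : w * w = el gs e) : GOK (.ext A B N g) (w :: gs) := by
  refine ⟨w, gs, rfl, l.symm, fun x hx => ?_, h⟩
  have := beq_iff.1 (allBig_iff.1 b x hx)
  rw [this, (h.mr l).mul, ← c, ← (a x hx).2]
  exact ⟨(a x hx).1, (h.mr l).lt _ _, rfl, rfl⟩

theorem GOK.tb {g : Gd} {gs : List G} (k : GOK g gs) {N : ℕ} (l : 2 ^ gs.length = N) {T : ℕ} (a : tabT (mu g N) N T = true) :
    GOK (.tb T N g) gs := by
  refine ⟨l.symm, fun x hx y hy => ?_, k⟩
  have := of_allLt a hx
  rw [forceB_eq] at this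
  have := of_allLt this hy
  rw [forceB_eq] at this
  rw [show look T (N * x + y) = _ from beq_iff.1 this]
  exact ⟨(k.mr l).lt _ _, (k.mr l).mul _ _⟩

universe u

/-- The relations imply the tables. -/
def TabOK (g : Gd) : Prop := ∀ (G : Type u) [Group G] (gs : List G), RelG g gs → GOK g gs

theorem TabOK.triv : TabOK.{u} .triv := fun _ _ _ h => h

theorem TabOK.ext {g : Gd} (h : TabOK.{u} g) {A B N : ℕ} (a : tabA (mu g N) N A = true)
    (b : tabB (mu g N) N A B (look B 0) = true) : TabOK.{u} (.ext A B N g) := by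
  rintro G _ _ ⟨w, gs, rfl, rfl, c, d, r⟩
  have k := h G gs r
  refine k.ext rfl (fun x hx => ?_) b c
  rw [← cgH_apply]
  exact (k.mr rfl).tab a (cgH w) (fun i p => (cgH_apply _ _).trans (d i ((Nat.pow_lt_pow_iff_right (by decide)).1 p))) hx

theorem TabOK.tb {g : Gd} (h : TabOK.{u} g) {T N : ℕ} (a : tabT (mu g N) N T = true) : TabOK.{u} (.tb T N g) :=
  fun G _ gs r => (h G gs r.2).tb r.1.symm a

/-- Equality of group data. -/
noncomputable def Gd.beq (g : Gd) : Gd → Bool :=
  Gd.rec (fun h => Gd.rec true (fun _ _ _ _ _ => false) (fun _ _ _ _ => false) h)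
    (fun A B N _ ih h => Gd.rec false (fun A' B' N' g' _ => band (Nat.beq A A') (band (Nat.beq B B') (band (Nat.beq N N') (ih g'))))
      (fun _ _ _ _ => false) h)
    (fun T N _ ih h => Gd.rec false (fun _ _ _ _ _ => false)
      (fun T' N' g' _ => band (Nat.beq T T') (band (Nat.beq N N') (ih g'))) h) g

theorem Gd.eq_of_beq {g h : Gd} (e : g.beq h = true) : g = h := by
  induction g generalizing h with
  | triv => cases h <;> first | rfl | exact absurd e Bool.false_ne_true
  | ext A B N g ih =>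
    cases h with
    | ext A' B' N' g' =>
      obtain ⟨a, e⟩ := band_eq_true.1 e
      obtain ⟨b, e⟩ := band_eq_true.1 e
      obtain ⟨c, e⟩ := band_eq_true.1 e
      rw [beq_iff.1 a, beq_iff.1 b, beq_iff.1 c, ih e]
    | _ => exact absurd e Bool.false_ne_true
  | tb T N g ih =>
    cases h with
    | tb T' N' g' =>
      obtain ⟨a, e⟩ := band_eq_true.1 e
      obtain ⟨c, e⟩ := band_eq_true.1 e
      rw [beq_iff.1 a, beq_iff.1 c, ih e]
    | _ => exact absurd e Bool.false_ne_true

end Cfsg.Lib.D8
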